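import Mathlib
import Cfsg.Agent.BlockCharsA.GaloisFixed
import Cfsg.Agent.BlocksChars.LinearTwist
import Cfsg.Agent.BlocksChars.Degrees
import Cfsg.Agent.S0239

/-!
Real irreducible characters over a normal subgroup of odd index.
-/

set_option autoImplicit false
set_option linter.style.haveILetI false
set_option linter.unusedSectionVars false

namespace Cfsg.Agent.CharTheory.RealPPrime

open Cfsg.Agent.Characters Cfsg.Agent.CharTheory.RelativeM
open scoped ComplexConjugate

universe u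

/-- Real-valued. -/
def IsRealF {X : Type*} (f : X → ℂ) : Prop := ∀ x, (f x).im = 0

theorem isRealF_iff_conj {X : Type*} (f : X → ℂ) : IsRealF f ↔ ∀ x, conj (f x) = f x :=
  forall_congr' fun _ => Complex.conj_eq_iff_im.symm

variable {G : Type u} [Group G] [Finite G]

/-- The subgroup generated by the elements of `ℓ`-power order. -/
abbrev primeGen (G : Type u) [Group G] (ℓ : ℕ) : Subgroup G :=
  Subgroup.closure {g : G | ∃ k : ℕ, orderOf g = ℓ ^ k}

instance primeGen_normal (ℓ : ℕ) : (primeGen G ℓ).Normal := by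
  constructor
  intro x hx g
  have hle : primeGen G ℓ ≤ (primeGen G ℓ).comap (MulAut.conj g).toMonoidHom :=
    (Subgroup.closure_le _).2 fun y hy => Subgroup.subset_closure (by
      obtain ⟨k, hk⟩ := hy
      exact ⟨k, by rw [← hk]; exact (MulAut.conj g).orderOf_eq y⟩)
  exact hle hx

theorem sylow_le_primeGen (ℓ : ℕ) [Fact ℓ.Prime] {P : Subgroup G} (hP : IsPGroup ℓ P) :
    P ≤ primeGen G ℓ := fun x hx => Subgroup.subset_closure (by
  obtain ⟨k, hk⟩ := IsPGroup.iff_orderOf.1 hP ⟨x, hx⟩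
  exact ⟨k, by rw [← hk, Subgroup.orderOf_mk]⟩)

theorem not_dvd_index_primeGen (ℓ : ℕ) [Fact ℓ.Prime] : ¬ ℓ ∣ (primeGen G ℓ).index := by
  obtain ⟨P⟩ : Nonempty (Sylow ℓ G) := inferInstance
  exact fun h => P.not_dvd_index (h.trans (Subgroup.index_dvd_of_le
    (sylow_le_primeGen ℓ P.isPGroup')))

theorem odd_index_primeGen : Odd (primeGen G 2).index := by
  haveI : Fact (Nat.Prime 2) := ⟨Nat.prime_two⟩
  rw [Nat.odd_iff, ← Nat.two_dvd_ne_zero]
  exact not_dvd_index_primeGen 2

variable (K : Subgroup G) [K.Normal]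

/-- Real elements lie in normal subgroups of odd index. -/
theorem mem_of_real (hodd : Odd K.index) {x : G} (hx : IsConj x x⁻¹) : x ∈ K := by
  rw [← QuotientGroup.eq_one_iff]
  by_contra hne
  have hev := S0239.result (x : G ⧸ K) hne (by
    obtain ⟨c, hc⟩ := isConj_iff.1 hx
    refine isConj_iff.2 ⟨(c : G ⧸ K), ?_⟩
    rw [← QuotientGroup.mk_mul, ← QuotientGroup.mk_inv, ← QuotientGroup.mk_mul, hc,
      QuotientGroup.mk_inv])
  rw [← Subgroup.index_eq_card] at hev
  exact (Nat.not_even_iff_odd.2 hodd) hev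

theorem inverts (hodd : Odd K.index) :
    BlockCharsA.GaloisFixed.Inverts K (Nat.card G - 1) := by
  have h1 : 1 ≤ Nat.card G := Nat.card_pos
  refine ⟨hodd, ?_, fun g => ?_⟩
  · have := (Nat.coprime_self_sub_right h1).2 (Nat.coprime_one_right (Nat.card G))
    exact this.symm
  · rw [← pow_succ, Nat.sub_add_cancel h1, pow_card_eq_one']
    exact K.one_mem

theorem fixed_iff_real {H : Type u} [Group H] [Finite H] {χ : H → ℂ} (hχ : Cfsg.IsCharacter H χ)
    {n : ℕ} (hn : 1 ≤ n) (hH : ∀ h : H, h ^ n = 1) :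
    (∀ h, χ (h ^ (n - 1)) = χ h) ↔ IsRealF χ := by
  rw [isRealF_iff_conj]
  refine forall_congr' fun h => ?_
  have e : h ^ (n - 1) = h⁻¹ := eq_inv_of_mul_eq_one_left (by
    rw [← pow_succ, Nat.sub_add_cancel hn, hH])
  rw [e, char_inv hχ]

variable [Fintype K]

/-- Over a real character lies exactly one real character, with multiplicity one. -/
theorem exists_unique_real_over (hodd : Odd K.index) {θ : K → ℂ} (hθ : Cfsg.IsIrrCharacter K θ)
    (hr : IsRealF θ) :
    ∃ χ : Cfsg.IrrCharacter G, (IsRealF (χ : G → ℂ) ∧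
        Cfsg.classInner (fun n : K => (χ : G → ℂ) n) θ = 1) ∧
      ∀ χ' : Cfsg.IrrCharacter G, IsRealF (χ' : G → ℂ) →
        Cfsg.classInner (fun n : K => (χ' : G → ℂ) n) θ ≠ 0 → χ' = χ := by
  classical
  haveI := Fintype.ofFinite G
  have hG : 1 ≤ Nat.card G := Nat.card_pos
  have hpow : ∀ g : G, g ^ Nat.card G = 1 := fun g => pow_card_eq_one'
  have hpowK : ∀ g : K, g ^ Nat.card G = 1 := fun g => Subtype.ext (by simp)
  have hk := inverts K hodd
  have hθk : ∀ n : K, θ (n ^ (Nat.card G - 1)) = θ n :=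
    (fixed_iff_real (isCharacter_of_isIrr hθ) hG hpowK).2 hr
  obtain ⟨χ₀, ⟨hover, hfix, -⟩, huniq⟩ := BlockCharsA.GaloisFixed.main hk ⟨θ, hθ⟩ hθk
  have huniq' : ∀ χ' : Cfsg.IrrCharacter G, IsRealF (χ' : G → ℂ) →
      Cfsg.classInner (fun n : K => (χ' : G → ℂ) n) θ ≠ 0 → χ' = χ₀ := fun χ' h1 h2 =>
    huniq χ' h2 ((fixed_iff_real (irr_isCharacter χ') hG hpow).2 h1)
  refine ⟨χ₀, ⟨(fixed_iff_real (irr_isCharacter χ₀) hG hpow).1 hfix, ?_⟩, huniq'⟩
  set T := inertia K θ
  have hKT : K ≤ T := le_inertia (char_isClassFunction (isCharacter_of_isIrr hθ))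
  haveI := Fintype.ofFinite T
  haveI := Fintype.ofFinite (K.subgroupOf T)
  let en : K.subgroupOf T ≃* K := Subgroup.subgroupOfEquivOfLe hKT
  obtain ⟨η, hη, hηK, hηk⟩ := BlockCharsA.GaloisFixed.extend (hk.restrict T hKT)
    ((isIrrCharacter_comp_mulEquiv en).2 hθ)
    (fun g => funext fun x => congrFun (mem_inertia.1 g.2) (en x))
    (fun x => by
      show θ (en (x ^ (Nat.card G - 1))) = θ (en x)
      rw [map_pow, hθk])
  have hres : (fun n : K => η (Subgroup.inclusion hKT n)) = θ := funext fun n =>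
    hηK ⟨⟨n, hKT n.2⟩, n.2⟩
  obtain ⟨hirr, -, hmult, -⟩ := BlocksChars.LinearTwist.induced_irr (φ := ⟨θ, hθ⟩) (I := T)
    (hNI := hKT) (ψ := ⟨η, hη⟩) (fun g => mem_inertia) hres
  have hηr : IsRealF η := (fixed_iff_real (isCharacter_of_isIrr hη) hG
    (fun g => Subtype.ext (by simp))).1 hηk
  have hIr : IsRealF (Cfsg.indFun T η) := by
    rw [isRealF_iff_conj] at hηr ⊢
    intro g
    apply mul_left_cancel₀ (natCard_ne_zero (G := T))
    conv_lhs => rw [← Complex.conj_natCast (Nat.card T), ← map_mul]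
    rw [IndBasic.card_mul_indFun, map_sum]
    refine Finset.sum_congr rfl fun x _ => ?_
    by_cases hx : x⁻¹ * g * x ∈ T
    · rw [IndBasic.extendByZero_of_mem T _ hx, hηr]
    · rw [IndBasic.extendByZero_of_notMem T _ hx, map_zero]
  have h := huniq' ⟨_, hirr⟩ hIr (by
    show Cfsg.classInner (fun n : K => Cfsg.indFun T η n) θ ≠ 0
    rw [hmult]; exact one_ne_zero)
  rw [← h]
  exact hmult

/-- The constituents of a real character are real. -/
theorem real_constituent (hodd : Odd K.index) {χ : G → ℂ} (hχ : Cfsg.IsIrrCharacter G χ)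
    (hr : IsRealF χ) {θ : K → ℂ} (hθ : Cfsg.IsIrrCharacter K θ)
    (hover : Cfsg.classInner (fun n : K => χ n) θ ≠ 0) : IsRealF θ := by
  classical
  have hover' : Cfsg.classInner (fun n : K => χ n) (fun n => conj (θ n)) ≠ 0 := by
    have e : (fun n : K => χ n) = fun n : K => conj (χ n) :=
      funext fun n => ((isRealF_iff_conj χ).1 hr n).symm
    rw [e, classInner_conj_conj]
    simpa using hover
  haveI := Fintype.ofFinite G
  obtain ⟨g, hg⟩ := Clifford.exists_conjBy_eq K hχ hθ (isIrrCharacter_conj hθ) hover hover'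
  have h2 : Clifford.conjBy K (g * g) θ = θ := by
    rw [← Clifford.conjBy_conjBy, hg]
    funext n
    rw [Clifford.conjBy_apply]
    have := congrFun hg n
    rw [Clifford.conjBy_apply] at this
    rw [this, Complex.conj_conj]
  have hpow : ∀ j : ℕ, Clifford.conjBy K (g * g) θ = θ → g ^ (2 * j) ∈ inertia K θ := by
    intro j h
    rw [pow_mul, sq]
    exact (inertia K θ).pow_mem (mem_inertia.2 h) j
  obtain ⟨r, hr'⟩ := hodd
  have hgT : g ∈ inertia K θ := by
    have h3 : g ^ (2 * r + 1) ∈ inertia K θ :=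
      le_inertia (char_isClassFunction (isCharacter_of_isIrr hθ)) (by
        rw [← hr']; exact K.pow_index_mem g)
    rw [pow_succ] at h3
    exact ((inertia K θ).mul_mem_cancel_left (hpow r h2)).1 h3
  rw [isRealF_iff_conj]
  intro n
  rw [← congrFun hg n, congrFun (mem_inertia.1 hgT) n]

/-- The degree of the real character over a real one. -/
theorem real_degree {χ : Cfsg.IrrCharacter G} {θ : Cfsg.IrrCharacter K}
    (h1 : Cfsg.classInner (fun n : K => (χ : G → ℂ) n) (θ : K → ℂ) = 1) :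
    Cfsg.charDegree (χ : G → ℂ) =
      (inertia K (θ : K → ℂ)).index * Cfsg.charDegree (θ : K → ℂ) := by
  haveI := Fintype.ofFinite G
  have h := Clifford.card_mul_degree K χ.2 θ.2 (by rw [h1]; exact one_ne_zero)
    (inertia K (θ : K → ℂ)) (fun g => mem_inertia)
  rw [h1, one_mul, ← (inertia K (θ : K → ℂ)).card_mul_index, Nat.cast_mul, mul_assoc] at h
  haveI := Fintype.ofFinite (inertia K (θ : K → ℂ))
  have h2 := mul_left_cancel₀ natCard_ne_zero h
  have h3 : (Cfsg.charDegree (χ : G → ℂ) : ℂ) =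
      (((inertia K (θ : K → ℂ)).index * Cfsg.charDegree (θ : K → ℂ) : ℕ) : ℂ) := by
    rw [Nat.cast_mul, BlocksChars.Degrees.charDegree_cast, BlocksChars.Degrees.charDegree_cast, h2]
  exact_mod_cast h3

end Cfsg.Agent.CharTheory.RealPPrime
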