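import Mathlib
import Cfsg.Agent.Lib.CharTheory.Clifford
import Cfsg.Agent.Lib.CharTheory.IndBasic
import Cfsg.Agent.Lib.Characters.Kernel
import Cfsg.Agent.Lib.Characters.Induction

/-!
A linear character of a normal subgroup, conjugate to its inverse, lies under a real irreducible
character, by a parity argument.
-/

set_option autoImplicit false
set_option linter.style.haveILetI false
set_option linter.unusedSectionVars false

namespace Cfsg.Agent.CharTheory.RealPPrime

open Cfsg.Agent.Characters
open scoped ComplexConjugate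

universe u

variable {G : Type u} [Group G] [Finite G]

/-- A linear character as a function. -/
def linFun {H : Type*} [Group H] (μ : H →* ℂˣ) : H → ℂ := fun h => (μ h : ℂ)

theorem linFun_inv {H : Type*} [Group H] [Finite H] (μ : H →* ℂˣ) (h : H) :
    conj (linFun μ h) = linFun μ h⁻¹ := by
  rw [linFun, linFun, map_inv, Units.val_inv_eq_inv_val]
  refine eq_inv_of_mul_eq_one_left ?_
  rw [mul_comm, Complex.mul_conj', linear_norm_eq_one μ h]
  simp

theorem mem_of_conj_mem (H : Subgroup G) (t : G) (h : ∀ x ∈ H, t * x * t⁻¹ ∈ H) {y : G}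
    (hy : t * y * t⁻¹ ∈ H) : y ∈ H := by
  have hbij : Function.Bijective (fun x : H => (⟨t * x * t⁻¹, h x x.2⟩ : H)) :=
    Finite.injective_iff_bijective.1 fun a b hab =>
      Subtype.ext (by simpa using congrArg Subtype.val hab)
  obtain ⟨x, hx⟩ := hbij.2 ⟨_, hy⟩
  have : (x : G) = y := by simpa using congrArg Subtype.val hx
  exact this ▸ x.2

theorem exists_real_over_linear (M : Subgroup G) [M.Normal] [Fintype M] (μ : M →* ℂˣ)
    (T : Subgroup G) (hT : ∀ g : G, g ∈ T ↔ Clifford.conjBy M g (linFun μ) = linFun μ)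
    (S : Subgroup G) (hST : S ≤ T) (hdisj : M ⊓ S = ⊥) (hodd : Odd ((M ⊔ S).relIndex T))
    (t : G) (ht : Clifford.conjBy M t (linFun μ) = fun n => conj (linFun μ n))
    (htS : ∀ s ∈ S, t * s * t⁻¹ ∈ S) :
    ∃ χ : Cfsg.IrrCharacter G, (∀ g : G, ((χ : G → ℂ) g).im = 0) ∧
      Cfsg.classInner (fun n : M => (χ : G → ℂ) n) (linFun μ) ≠ 0 := by
  classical
  haveI := Fintype.ofFinite G
  haveI := Fintype.ofFinite (Cfsg.IrrCharacter G)
  set H := M ⊔ S with hH
  have hMH : M ≤ H := le_sup_left
  haveI := Fintype.ofFinite H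
  -- the extension
  have hdec : ∀ x : H, ∃ m : M, (m : G)⁻¹ * x ∈ S := by
    intro x
    have hx : (x : G) ∈ (↑(M ⊔ S) : Set G) := x.2
    rw [Subgroup.normal_mul] at hx
    obtain ⟨m, hm, s, hs, e⟩ := hx
    exact ⟨⟨m, hm⟩, by simpa [← e] using hs⟩
  choose m hm using hdec
  have huniq : ∀ (x : H) (a : M), (a : G)⁻¹ * x ∈ S → m x = a := by
    intro x a ha
    have h1 : (a : G)⁻¹ * (m x : G) ∈ M ⊓ S := by
      refine ⟨M.mul_mem (M.inv_mem a.2) (m x).2, ?_⟩
      have := S.mul_mem ha (S.inv_mem (hm x))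
      simpa [mul_assoc] using this
    rw [hdisj, Subgroup.mem_bot, inv_mul_eq_one] at h1
    exact Subtype.ext h1.symm
  let Λ : H →* ℂˣ := MonoidHom.mk' (fun x => μ (m x)) fun x y => by
    set s := (m x : G)⁻¹ * x with hs
    have hc : s * (m y : G) * s⁻¹ ∈ M := (inferInstance : M.Normal).conj_mem _ (m y).2 s
    have h1 : m (x * y) = m x * ⟨_, hc⟩ := by
      refine huniq _ _ ?_
      have := S.mul_mem (hm x) (hm y)
      convert this using 1
      simp only [Subgroup.coe_mul, hs]
      group
    have h2 : μ ⟨_, hc⟩ = μ (m y) := by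
      refine Units.ext ?_
      have := congrFun ((hT s).1 (hST (hm x))) (m y)
      rwa [Clifford.conjBy_apply] at this
    rw [h1, map_mul, h2]
  have hΛM : ∀ (n : G) (hn : n ∈ M), Λ ⟨n, hMH hn⟩ = μ ⟨n, hn⟩ := by
    intro n hn
    refine congrArg μ (huniq _ _ ?_)
    simp
  have htH : ∀ x ∈ H, t * x * t⁻¹ ∈ H := by
    intro x hx
    have hx' : x ∈ (↑(M ⊔ S) : Set G) := hx
    rw [Subgroup.normal_mul] at hx'
    obtain ⟨a, ha, s, hs, rfl⟩ := hx'
    have e : t * (a * s) * t⁻¹ = (t * a * t⁻¹) * (t * s * t⁻¹) := by group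
    show t * (a * s) * t⁻¹ ∈ H
    rw [e]
    exact H.mul_mem (hMH ((inferInstance : M.Normal).conj_mem a ha t))
      (le_sup_right (a := M) (htS s hs))
  have hΛt : ∀ x : H, linFun Λ ⟨t * x * t⁻¹, htH x x.2⟩ = conj (linFun Λ x) := by
    intro x
    have hc : t * (m x : G) * t⁻¹ ∈ M := (inferInstance : M.Normal).conj_mem _ (m x).2 t
    have h1 : m ⟨t * x * t⁻¹, htH x x.2⟩ = ⟨_, hc⟩ := by
      refine huniq _ _ ?_
      have := htS _ (hm x)
      convert this using 1
      simp only
      group
    have h2 := congrFun ht (m x)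
    rw [Clifford.conjBy_apply] at h2
    show (μ (m _) : ℂ) = conj (μ (m x) : ℂ)
    rw [h1]
    exact h2
  set Φ : G → ℂ := Cfsg.indFun H (linFun Λ) with hΦdef
  have hΦ : Cfsg.IsCharacter G Φ :=
    isCharacter_indFun H (isCharacter_of_isIrr (isIrrCharacter_linear Λ))
  have hΦreal : ∀ g, conj (Φ g) = Φ g := by
    have hext : ∀ y : G, conj (Cfsg.extendByZero H (linFun Λ) y) =
        Cfsg.extendByZero H (linFun Λ) (t * y * t⁻¹) := by
      intro y
      by_cases hy : y ∈ H
      · rw [IndBasic.extendByZero_of_mem H _ hy, IndBasic.extendByZero_of_mem H _ (htH y hy)]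
        exact (hΛt ⟨y, hy⟩).symm
      · rw [IndBasic.extendByZero_of_notMem H _ hy,
          IndBasic.extendByZero_of_notMem H _ fun h => hy (mem_of_conj_mem H t htH h), map_zero]
    intro g
    apply mul_left_cancel₀ (natCard_ne_zero (G := H))
    conv_lhs => rw [← Complex.conj_natCast (Nat.card H), ← map_mul]
    rw [hΦdef, IndBasic.card_mul_indFun, map_sum]
    refine Fintype.sum_equiv (Equiv.mulRight t⁻¹) _ _ fun x => ?_
    rw [hext]
    congr 1
    simp [mul_assoc]
  have hμ : Cfsg.IsIrrCharacter M (linFun μ) := isIrrCharacter_linear μ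
  have hres : Cfsg.classInner (fun n : M => Φ n) (linFun μ) = ((H.relIndex T : ℕ) : ℂ) := by
    have h1 : (Nat.card H : ℂ) • (fun n : M => Φ n) =
        ∑ x : G, Clifford.conjBy M x (linFun μ) := by
      funext n
      simp only [Pi.smul_apply, smul_eq_mul, Finset.sum_apply]
      rw [hΦdef, IndBasic.card_mul_indFun]
      refine Fintype.sum_equiv (Equiv.inv G) _ _ fun x => ?_
      have hxn : x⁻¹ * n * x ∈ M := by
        simpa using (inferInstance : M.Normal).conj_mem (n : G) n.2 x⁻¹
      rw [IndBasic.extendByZero_of_mem H _ (hMH hxn), Clifford.conjBy_apply]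
      show (Λ ⟨_, hMH hxn⟩ : ℂ) = _
      rw [hΛM _ hxn]
      exact congrArg (fun a => (μ a : ℂ)) (Subtype.ext (by simp))
    have h2 := congrArg (fun f => Cfsg.classInner f (linFun μ)) h1
    simp only [classInner_smul_left, classInner_sum_left] at h2
    apply mul_left_cancel₀ (natCard_ne_zero (G := H))
    rw [h2]
    have hle : H ≤ T := by
      refine sup_le (fun n hn => ?_) hST
      rw [hT]
      funext a
      rw [Clifford.conjBy_apply]
      exact (char_isClassFunction (isCharacter_of_isIrr hμ) a ⟨n, hn⟩)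
    have hcard : Nat.card H * H.relIndex T = Nat.card T := by
      rw [Subgroup.relIndex, ← (H.subgroupOf T).card_mul_index,
        Nat.card_congr (Subgroup.subgroupOfEquivOfLe hle).toEquiv]
    rw [← Nat.cast_mul, hcard, Finset.sum_congr rfl (g := fun x => if x ∈ T then (1 : ℂ) else 0)
      fun x _ => ?_]
    · rw [Finset.sum_boole, Nat.cast_inj, Nat.card_eq_fintype_card, ← Fintype.card_subtype]
    · by_cases hx : x ∈ T
      · rw [if_pos hx, (hT x).1 hx, classInner_isIrr_self hμ]
      · rw [if_neg hx]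
        exact classInner_isIrr_ne (Clifford.isIrrCharacter_conjBy M x hμ) hμ fun h => hx ((hT x).2 h)
  choose a ha using fun χ : Cfsg.IrrCharacter G => classInner_char_nat hΦ (irr_isCharacter χ)
  choose b hb using fun χ : Cfsg.IrrCharacter G => classInner_char_nat
    (isCharacter_restrict M (irr_isCharacter χ)) (isCharacter_of_isIrr hμ)
  have hsum : H.relIndex T = ∑ χ, a χ * b χ := by
    have hexp : (fun n : M => Φ n) = ∑ χ : Cfsg.IrrCharacter G,
        (a χ : ℂ) • (fun n : M => (χ : G → ℂ) n) := by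
      funext n
      have := congrFun (classFun_eq_sum (char_isClassFunction hΦ)) (n : G)
      simpa [ha, Finset.sum_apply] using this
    rw [hexp, classInner_sum_left] at hres
    simp only [classInner_smul_left, hb] at hres
    exact_mod_cast hres.symm
  let σ : Cfsg.IrrCharacter G → Cfsg.IrrCharacter G := fun χ =>
    ⟨fun g => conj ((χ : G → ℂ) g), isIrrCharacter_conj χ.2⟩
  have hσa : ∀ χ, a (σ χ) = a χ := by
    intro χ
    have h1 := ha (σ χ)
    rw [← funext hΦreal, classInner_conj_conj, ha χ, Complex.conj_natCast] at h1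
    exact_mod_cast h1.symm
  have hσb : ∀ χ, b (σ χ) = b χ := by
    intro χ
    have h1 := hb (σ χ)
    have h2 : Cfsg.classInner (fun n : M => (χ : G → ℂ) n)
        (fun n => conj (linFun μ n)) = (b χ : ℂ) := by
      rw [← ht, Clifford.classInner_restrict_conjBy M (irr_isClassFunction χ), hb χ]
    have h3 : Cfsg.classInner (fun n : M => conj ((χ : G → ℂ) n)) (linFun μ) = (b χ : ℂ) := by
      conv_lhs => rw [show linFun μ = fun n => conj (conj (linFun μ n)) from
        funext fun n => (Complex.conj_conj _).symm]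
      rw [classInner_conj_conj, h2, Complex.conj_natCast]
    exact_mod_cast h1.symm.trans h3
  by_contra hno
  push Not at hno
  have h0 : ∑ χ, ((a χ * b χ : ℕ) : ZMod 2) = 0 := by
    refine Finset.sum_involution (fun χ _ => σ χ) (fun χ _ => ?_) (fun χ _ hne he => ?_)
      (fun χ _ => Finset.mem_univ _) fun χ _ => Subtype.ext (funext fun g => Complex.conj_conj _)
    · rw [hσa, hσb]
      exact CharTwo.add_self_eq_zero _
    · apply hne
      have hreal : ∀ g, ((χ : G → ℂ) g).im = 0 := fun g =>
        Complex.conj_eq_iff_im.1 (congrFun (congrArg Subtype.val he) g)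
      have hbz : b χ = 0 := by exact_mod_cast (hb χ).symm.trans (hno χ hreal)
      rw [hbz, mul_zero, Nat.cast_zero]
  rw [← Nat.cast_sum, ← hsum, (ZMod.natCast_eq_zero_iff_even)] at h0
  exact (Nat.not_even_iff_odd.2 hodd) h0

end Cfsg.Agent.CharTheory.RealPPrime
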