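import Mathlib
import Cfsg.Agent.Lib.CharTheory.RealPPrime.Parity
import Cfsg.Agent.Lib.CharTheory.RealPPrime.OddIndex
import Cfsg.Agent.Lib.Hall.MinimalNormal

/-!
Normal Sylow subgroups of the odd residual when the real characters have degree prime to `p`.
-/

set_option autoImplicit false
set_option linter.style.haveILetI false
set_option linter.unusedSectionVars false

namespace Cfsg.Agent.CharTheory.RealPPrime

open Cfsg.Agent.Characters Cfsg.Agent.CharTheory.RelativeM
open scoped ComplexConjugate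

universe u

/-- All real irreducible characters have degree prime to `p`. -/
def RealPP (G : Type u) [Group G] (p : ℕ) : Prop :=
  ∀ χ : Cfsg.IrrCharacter G, IsRealF (χ : G → ℂ) → ¬ p ∣ Cfsg.charDegree (χ : G → ℂ)

variable {G : Type u} [Group G] [Finite G] {p : ℕ} [Fact p.Prime]

/-- A `p`-subgroup is conjugate into every subgroup of index prime to `p`. -/
theorem exists_conj_le {R : Subgroup G} (hR : IsPGroup p R) (T : Subgroup G)
    (hT : ¬ p ∣ T.index) : ∃ g : G, ∀ r ∈ R, g⁻¹ * r * g ∈ T := by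
  rw [Subgroup.index_eq_card] at hT
  obtain ⟨q, hq⟩ := hR.nonempty_fixed_point_of_prime_not_dvd_card (G ⧸ T) hT
  induction q using QuotientGroup.induction_on with | _ g => ?_
  refine ⟨g, fun r hr => ?_⟩
  have h : ((r * g : G) : G ⧸ T) = (g : G ⧸ T) := hq ⟨r, hr⟩
  rw [eq_comm, QuotientGroup.eq] at h
  rwa [← mul_assoc] at h

theorem primeGen_map (N : Subgroup G) [N.Normal] (ℓ : ℕ) [Fact ℓ.Prime] :
    primeGen (G ⧸ N) ℓ = (primeGen G ℓ).map (QuotientGroup.mk' N) := by
  refine le_antisymm ((Subgroup.closure_le _).2 ?_) ?_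
  · rintro y ⟨k, hk⟩
    obtain ⟨x, rfl⟩ := QuotientGroup.mk'_surjective N y
    set m := ordCompl[ℓ] (orderOf x)
    have hm : x ^ m ∈ primeGen G ℓ := Subgroup.subset_closure ⟨(orderOf x).factorization ℓ, by
      rw [orderOf_pow_of_dvd (Nat.pos_iff_ne_zero.1 (Nat.ordCompl_pos _ (orderOf_pos x).ne'))
        (Nat.ordCompl_dvd _ _), Nat.div_div_self (Nat.ordProj_dvd _ _) (orderOf_pos x).ne']⟩
    have hcop : m.Coprime (orderOf (QuotientGroup.mk' N x)) := by
      rw [hk]
      exact ((Nat.coprime_ordCompl (Fact.out : ℓ.Prime) (orderOf_pos x).ne').pow_left k).symm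
    obtain ⟨j, hj⟩ := exists_pow_eq_self_of_coprime hcop
    rw [SetLike.mem_coe, ← hj, ← map_pow]
    exact Subgroup.pow_mem _ (Subgroup.mem_map_of_mem _ hm) j
  · rw [Subgroup.map_le_iff_le_comap, Subgroup.closure_le]
    rintro x ⟨k, hk⟩
    obtain ⟨j, -, hj⟩ := (Nat.dvd_prime_pow (Fact.out : ℓ.Prime)).1
      (hk ▸ orderOf_map_dvd (QuotientGroup.mk' N) x)
    exact Subgroup.subset_closure ⟨j, hj⟩

theorem realPP_quotient (h : RealPP G p) (N : Subgroup G) [N.Normal] : RealPP (G ⧸ N) p := by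
  intro χ hχ
  exact h ⟨(χ : G ⧸ N → ℂ) ∘ QuotientGroup.mk' N,
    isIrrCharacter_comp_surjective _ (QuotientGroup.mk'_surjective N) χ.2⟩ fun g => hχ _

theorem relIndex_sup_normal (A U : Subgroup G) [U.Normal] :
    A.relIndex (A ⊔ U) = (A ⊓ U).relIndex U := by
  have h1 := Subgroup.relIndex_mul_relIndex (A ⊓ U) U (A ⊔ U) inf_le_right le_sup_right
  have h2 := Subgroup.relIndex_mul_relIndex (A ⊓ U) A (A ⊔ U) inf_le_left le_sup_left
  rw [Subgroup.inf_relIndex_left, ← h1, Subgroup.relIndex_sup_right, mul_comm] at h2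
  have h3 : U.relIndex A ≠ 0 := (U.subgroupOf A).index_ne_zero_of_finite
  exact Nat.eq_of_mul_eq_mul_right (Nat.pos_of_ne_zero h3) h2

theorem not_dvd_relIndex_inf (P : Sylow p G) (U : Subgroup G) [U.Normal] :
    ¬ p ∣ ((P : Subgroup G) ⊓ U).relIndex U := by
  rw [← relIndex_sup_normal]
  exact fun h => P.not_dvd_index (h.trans
    (Dvd.intro _ (Subgroup.relIndex_mul_index le_sup_left)))

theorem relIndex_map_dvd' {H : Type u} [Group H] (f : G →* H) {A B : Subgroup G} :
    (A.map f).relIndex (B.map f) ∣ A.relIndex B := by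
  refine dvd_trans ?_ (Subgroup.index_map_dvd (A.subgroupOf B) (f.subgroupMap_surjective B))
  refine Subgroup.index_dvd_of_le ?_
  rintro - ⟨⟨x, hxB⟩, hx, rfl⟩
  exact Subgroup.mem_map_of_mem f (Subgroup.mem_subgroupOf.1 hx)

theorem eq_of_relIndex {A B : Subgroup G} (hAB : A ≤ B) (hB : IsPGroup p B)
    (h : ¬ p ∣ A.relIndex B) : A = B := by
  obtain ⟨k, hk⟩ := IsPGroup.iff_card.1 hB
  have h1 : A.relIndex B ∣ p ^ k := hk ▸ (A.subgroupOf B).index_dvd_card
  obtain ⟨j, -, hj⟩ := (Nat.dvd_prime_pow (Fact.out : p.Prime)).1 h1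
  have hj0 : j = 0 := by
    by_contra hne
    exact h (hj ▸ dvd_pow_self p hne)
  rw [hj0, pow_zero] at hj
  exact le_antisymm hAB (Subgroup.relIndex_eq_one.1 hj)

/-- The abelian step: a complemented minimal normal subgroup contradicts the hypothesis. -/
theorem false_of_complement (hreal : RealPP G p) (R : Subgroup G) (hR : IsPGroup p R)
    (N : Subgroup G) [N.Normal] [Fintype N] (hNne : N ≠ ⊥)
    (hmin : ∀ K : Subgroup G, K.Normal → K ≤ N → K = ⊥ ∨ K = N)
    {q : ℕ} (hel : Cfsg.IsElementaryAbelian q N) (hq : q.Prime)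
    (hqN : IsPGroup q N)
    (hNK : N ≤ primeGen G 2)
    (hdec : ∀ g : G, ∃ n ∈ N, ∃ l ∈ Subgroup.normalizer (R : Set G), g = n * l)
    (hdisj : N ⊓ Subgroup.normalizer (R : Set G) = ⊥)
    (hnc : ¬ N ≤ Subgroup.centralizer (R : Set G)) : False := by
  classical
  set L := Subgroup.normalizer (R : Set G) with hL
  haveI := hel.1
  letI : CommGroup N := { (inferInstance : Group N) with mul_comm := fun a b => mul_comm' a b }
  haveI : NeZero (Monoid.exponent N : ℂ) :=
    ⟨Nat.cast_ne_zero.2 Monoid.exponent_ne_zero_of_finite⟩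
  have hsep : ∀ a b : N, a ≠ b → ∃ μ : N →* ℂˣ, μ a ≠ μ b := by
    intro a b hab
    obtain ⟨μ, hμ⟩ := CommGroup.exists_apply_ne_one_of_hasEnoughRootsOfUnity N ℂ
      (a := a * b⁻¹) (fun h => hab (mul_inv_eq_one.1 h))
    exact ⟨μ, fun h => hμ (by rw [map_mul, map_inv, h, mul_inv_cancel])⟩
  have habel : ∀ a ∈ N, ∀ b ∈ N, a * b = b * a := fun a ha b hb =>
    congrArg Subtype.val (mul_comm' (⟨a, ha⟩ : N) ⟨b, hb⟩)
  let c : G → N →* N := fun g => (MulAut.conjNormal g : N ≃* N).toMonoidHom
  have hc : ∀ g (x : N), ((c g x : N) : G) = g * x * g⁻¹ := fun g x => MulAut.conjNormal_apply g x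
  have hcc : ∀ g h (x : N), c g (c h x) = c (g * h) x := fun g h x =>
    Subtype.ext (by simp only [hc]; group)
  have hcN : ∀ n ∈ N, ∀ x : N, c n x = x := fun n hn x => Subtype.ext (by
    rw [hc, habel n hn x x.2, mul_inv_cancel_right])
  -- `R` fixes only the trivial character
  have hfix1 : ∀ μ : N →* ℂˣ, (∀ r ∈ R, ∀ x, μ (c r x) = μ x) → μ = 1 := by
    let F : Subgroup G := Subgroup.map N.subtype
      (⨅ μ : {μ : N →* ℂˣ // ∀ r ∈ R, ∀ x, μ (c r x) = μ x}, μ.1.ker)
    have hFmem : ∀ x : N, (x : G) ∈ F ↔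
        ∀ μ : N →* ℂˣ, (∀ r ∈ R, ∀ y, μ (c r y) = μ y) → μ x = 1 := by
      intro x
      rw [Subgroup.mem_map]
      constructor
      · rintro ⟨y, hy, hyx⟩ μ hμ
        rw [← Subtype.ext hyx]
        exact (Subgroup.mem_iInf.1 hy ⟨μ, hμ⟩ :)
      · intro h
        exact ⟨x, Subgroup.mem_iInf.2 fun μ => h μ.1 μ.2, rfl⟩
    have hFn : F.Normal := by
      constructor
      intro y hy g
      obtain ⟨x, -, rfl⟩ := Subgroup.mem_map.1 hy
      show g * (x : G) * g⁻¹ ∈ F
      have hx := (hFmem x).1 hy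
      obtain ⟨n, hn, l, hl, rfl⟩ := hdec g
      rw [show n * l * (x : G) * (n * l)⁻¹ = ((c (n * l) x : N) : G) from (hc _ _).symm, hFmem]
      intro μ hμ
      rw [← hcc, hcN n hn]
      refine hx (μ.comp (c l)) fun r hr y => ?_
      have hr' : l * r * l⁻¹ ∈ R := (Subgroup.mem_normalizer_iff.1 hl r).1 hr
      show μ (c l (c r y)) = μ (c l y)
      rw [hcc, show l * r = (l * r * l⁻¹) * l by group, ← hcc, hμ _ hr']
    rcases hmin F hFn (Subgroup.map_subtype_le _) with h | h
    · exfalso
      refine hnc fun n hn => Subgroup.mem_centralizer_iff.2 fun r hr => ?_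
      have h1 : ((c r ⟨n, hn⟩ * ⟨n, hn⟩⁻¹ : N) : G) ∈ F := (hFmem _).2 fun μ hμ => by
        rw [map_mul, map_inv, hμ r hr, mul_inv_cancel]
      rw [h, Subgroup.mem_bot, Subgroup.coe_mul, hc, Subgroup.coe_inv, mul_inv_eq_one,
        mul_inv_eq_iff_eq_mul] at h1
      exact h1
    · intro μ hμ
      refine MonoidHom.ext fun x => ?_
      exact (hFmem x).1 (h.symm ▸ x.2) μ hμ
  -- a character conjugate to its inverse
  obtain ⟨μ, hμ1, t, htL, ht⟩ : ∃ μ : N →* ℂˣ, μ ≠ 1 ∧ ∃ t ∈ L, ∀ x, μ (c t x) = (μ x)⁻¹ := by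
    by_cases hcent : ∀ u : G, (∃ k : ℕ, orderOf u = 2 ^ k) → ∀ x : N, c u x = x
    · by_cases hq2 : q = 2
      · obtain ⟨a, ha, ha1⟩ := (Subgroup.ne_bot_iff_exists_ne_one.1 hNne : ∃ a : N, a ≠ 1) |>.elim
          fun a ha => (⟨a, a.2, ha⟩ : ∃ a : G, ∃ ha : a ∈ N, (⟨a, ha⟩ : N) ≠ 1)
        obtain ⟨μ, hμ⟩ := hsep _ _ ha1
        refine ⟨μ, fun h => hμ (by rw [h]; rfl), 1, L.one_mem, fun x => ?_⟩
        rw [hcN 1 N.one_mem]
        refine eq_inv_of_mul_eq_one_left ?_
        rw [← map_mul, ← sq, ← hq2, show x ^ q = 1 from Subtype.ext (by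
          simpa using hel.2 x x.2), map_one]
      · exfalso
        have hKL : primeGen G 2 ≤ L := by
          refine (Subgroup.closure_le _).2 ?_
          rintro u ⟨k, hk⟩
          obtain ⟨n, hn, l, hl, hu⟩ := hdec u
          have hcomm : Commute n l := by
            have h1 := congrArg Subtype.val (hcent u ⟨k, hk⟩ ⟨n, hn⟩)
            rw [hc, hu] at h1
            have h2 : n * l * n * (n * l)⁻¹ = n := h1
            rw [mul_inv_eq_iff_eq_mul, mul_assoc n l n] at h2
            exact (mul_left_cancel h2).symm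
          have h1 : n ^ 2 ^ k * l ^ 2 ^ k = 1 := by
            rw [← hcomm.mul_pow, ← hu, ← hk, pow_orderOf_eq_one]
          have h2 : n ^ 2 ^ k ∈ N ⊓ L :=
            ⟨N.pow_mem hn _, by rw [eq_inv_of_mul_eq_one_left h1]; exact L.inv_mem (L.pow_mem hl _)⟩
          rw [hdisj, Subgroup.mem_bot] at h2
          have h3 : n ^ q = 1 := hel.2 n hn
          have hn1 : n = 1 := by
            have hco : Nat.Coprime (2 ^ k) q :=
              ((Nat.coprime_primes Nat.prime_two hq).2 (Ne.symm hq2)).pow_left k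
            have := pow_gcd_eq_one.2 ⟨h2, h3⟩
            rwa [hco, pow_one] at this
          rw [hu, hn1, one_mul]
          exact hl
        exact hNne (le_bot_iff.1 (hdisj ▸ le_inf le_rfl (hNK.trans hKL)))
    · push Not at hcent
      obtain ⟨u, ⟨k, hk⟩, x₀, hx₀⟩ := hcent
      have hlast : ∀ x : N, c (u ^ 2 ^ k) x = x := fun x => by
        rw [← hk, pow_orderOf_eq_one, hcN 1 N.one_mem]
      have hex : ∃ j, ∀ x : N, c (u ^ 2 ^ j) x = x := ⟨k, hlast⟩
      have hj0 : Nat.find hex ≠ 0 := by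
        intro h0
        have := Nat.find_spec hex x₀
        rw [h0, pow_zero, pow_one] at this
        exact hx₀ this
      obtain ⟨i, hi⟩ := Nat.exists_eq_succ_of_ne_zero hj0
      set v := u ^ 2 ^ i
      have hv2 : ∀ x : N, c (v * v) x = x := by
        intro x
        have := Nat.find_spec hex x
        rwa [hi, pow_succ, pow_mul, sq] at this
      obtain ⟨x₁, hx₁⟩ : ∃ x : N, c v x ≠ x := by
        by_contra hno
        push Not at hno
        exact Nat.find_min hex (by omega : i < Nat.find hex) hno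
      obtain ⟨μ₀, hμ₀⟩ := hsep _ _ hx₁
      obtain ⟨n, hn, l, hl, hv⟩ := hdec v
      refine ⟨μ₀.comp (c v) * μ₀⁻¹, fun h => hμ₀ ?_, l, hl, fun x => ?_⟩
      · have := DFunLike.congr_fun h x₁
        simp only [MonoidHom.mul_apply, MonoidHom.inv_apply, MonoidHom.comp_apply,
          MonoidHom.one_apply, mul_inv_eq_one] at this
        exact this
      · have e : c l x = c v x := by rw [hv, ← hcc, hcN n hn]
        simp only [MonoidHom.mul_apply, MonoidHom.inv_apply, MonoidHom.comp_apply, e, hcc, hv2,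
          mul_inv_rev, inv_inv]
  -- the real character
  set T := inertia N (linFun μ)
  have hNT : N ≤ T := fun n hn => mem_inertia.2 (funext fun x => by
    rw [Clifford.conjBy_apply]
    exact congrArg (fun a : N => ((μ a : ℂˣ) : ℂ)) (Subtype.ext (by
      show n * (x : G) * n⁻¹ = x
      rw [habel n hn x x.2, mul_inv_cancel_right])))
  have hTmem : ∀ g : G, g ∈ T ↔ ∀ x : N, μ (c g x) = μ x := by
    intro g
    rw [mem_inertia, funext_iff]
    refine forall_congr' fun x => ?_
    rw [Clifford.conjBy_apply]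
    exact ⟨fun h => Units.ext h, fun h => congrArg Units.val h⟩
  have hsupT : N ⊔ (T ⊓ L) = T := by
    refine le_antisymm (sup_le hNT inf_le_left) fun g hg => ?_
    obtain ⟨n, hn, l, hl, rfl⟩ := hdec g
    refine Subgroup.mul_mem_sup hn ⟨?_, hl⟩
    have := T.mul_mem (T.inv_mem (hNT hn)) hg
    rwa [inv_mul_cancel_left] at this
  obtain ⟨χ, hχr, hχ⟩ := exists_real_over_linear N μ T (fun g => mem_inertia) (T ⊓ L) inf_le_left
    (le_bot_iff.1 (hdisj ▸ inf_le_inf le_rfl inf_le_right))
    (by rw [hsupT, Subgroup.relIndex_self]; exact odd_one) t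
    (funext fun x => by
      rw [Clifford.conjBy_apply, linFun_inv]
      show ((μ (c t x) : ℂˣ) : ℂ) = ((μ x⁻¹ : ℂˣ) : ℂ)
      rw [ht, map_inv])
    (fun s hs => ⟨(hTmem _).2 fun x => by
      have h1 : μ (c (t * s * t⁻¹) x) = (μ (c (s * t⁻¹) x))⁻¹ := by
        rw [← ht, hcc, mul_assoc]
      have h2 : μ x = (μ (c t⁻¹ x))⁻¹ := by
        rw [← ht, hcc, mul_inv_cancel, hcN 1 N.one_mem]
      rw [h1, h2, ← hcc, (hTmem s).1 hs.1], L.mul_mem (L.mul_mem htL hs.2) (L.inv_mem htL)⟩)
  haveI := Fintype.ofFinite G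
  have hdeg := Clifford.card_mul_degree N χ.2 (isIrrCharacter_linear μ) hχ T fun g => mem_inertia
  obtain ⟨m, hm⟩ := classInner_char_nat (isCharacter_restrict N (irr_isCharacter χ))
    (isCharacter_of_isIrr (isIrrCharacter_linear μ))
  have hm' : Cfsg.classInner (fun n : N => (χ : G → ℂ) n) (linFun μ) = (m : ℂ) := hm
  have hdvd : T.index ∣ Cfsg.charDegree (χ : G → ℂ) := by
    refine Dvd.intro m ?_
    have h1 : (Cfsg.charDegree (χ : G → ℂ) : ℂ) = ((T.index * m : ℕ) : ℂ) := by
      refine mul_left_cancel₀ (Nat.cast_ne_zero.2 (Nat.card_pos (α := T)).ne' : (Nat.card T : ℂ) ≠ 0) ?_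
      rw [BlocksChars.Degrees.charDegree_cast]
      refine hdeg.trans ?_
      show Cfsg.classInner (fun n : N => (χ : G → ℂ) n) (linFun μ) * _ = _
      rw [hm', ← T.card_mul_index, Nat.cast_mul, Nat.cast_mul, map_one, Units.val_one, mul_one]
      ring
    exact_mod_cast h1.symm
  obtain ⟨g, hg⟩ := exists_conj_le hR T fun h => hreal χ hχr (h.trans hdvd)
  have hμg : μ.comp (c g⁻¹) = 1 := hfix1 _ fun r hr x => by
    show μ (c g⁻¹ (c r x)) = μ (c g⁻¹ x)
    rw [hcc, show g⁻¹ * r = (g⁻¹ * r * g) * g⁻¹ by group, ← hcc, (hTmem _).1 (hg r hr)]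
  refine hμ1 (MonoidHom.ext fun x => ?_)
  have := DFunLike.congr_fun hμg (c g x)
  simp only [MonoidHom.comp_apply, MonoidHom.one_apply, hcc, inv_mul_cancel,
    hcN 1 N.one_mem] at this
  exact this

theorem inf_normal_aux : ∀ (d : ℕ) (G : Type u) [Group G] [Finite G], Nat.card G ≤ d →
    Group.IsSolvable (primeGen G p) → RealPP G p →
    ∀ (P : Sylow p G) (U : Subgroup G) [U.Normal], primeGen G 2 ≤ U →
      (∃ a : ℕ, (primeGen G 2).relIndex U = p ^ a) → ((P : Subgroup G) ⊓ U).Normal := by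
  intro d
  induction d with
  | zero => intro G _ _ hd; exact absurd hd (by have := Nat.card_pos (α := G); omega)
  | succ d ih =>
    intro G _ _ hd hsolv hreal P U _ hKU ha
    classical
    haveI : Fact (Nat.Prime 2) := ⟨Nat.prime_two⟩
    rcases subsingleton_or_nontrivial G with hs | hs
    · exact ⟨fun x hx g => by rwa [Subsingleton.elim (g * x * g⁻¹) x]⟩
    obtain ⟨N, hN, -, hNne, hmin⟩ := Hall.exists_minimal_normal (⊤ : Subgroup G) bot_lt_top.ne'
    haveI := hN
    haveI := Fintype.ofFinite N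
    set π := QuotientGroup.mk' N
    have hπ : Function.Surjective π := QuotientGroup.mk'_surjective N
    have hlt : Nat.card (G ⧸ N) ≤ d := by
      have h1 := N.card_mul_index
      rw [Subgroup.index_eq_card] at h1
      have h2 := (Subgroup.one_lt_card_iff_ne_bot N).2 hNne
      have h3 : 0 < Nat.card (G ⧸ N) := Nat.card_pos
      nlinarith
    have hR : IsPGroup p ((P : Subgroup G) ⊓ U : Subgroup G) := P.isPGroup'.to_le inf_le_left
    set R := (P : Subgroup G) ⊓ U with hRdef
    haveI : (U.map π).Normal := (inferInstance : U.Normal).map π hπ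
    have hsolv' : Group.IsSolvable (primeGen (G ⧸ N) p) := by
      rw [primeGen_map N p]
      haveI := hsolv
      exact Group.isSolvable_of_surjective ((π.subgroupMap_surjective (primeGen G p)))
    obtain ⟨a, ha⟩ := ha
    obtain ⟨a', -, ha'⟩ := (Nat.dvd_prime_pow (Fact.out : p.Prime)).1
      (show (primeGen (G ⧸ N) 2).relIndex (U.map π) ∣ p ^ a by
        rw [primeGen_map N 2, ← ha]
        exact relIndex_map_dvd' π)
    have hih := ih (G ⧸ N) hlt hsolv' (realPP_quotient hreal N) (P.mapSurjective hπ) (U.map π)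
      (by rw [primeGen_map N 2]; exact Subgroup.map_mono hKU) ⟨a', ha'⟩
    have hW : (R ⊔ N).Normal := by
      have hle : R.map π ≤ ((P.mapSurjective hπ : Sylow p (G ⧸ N)) : Subgroup (G ⧸ N)) ⊓ U.map π :=
        le_inf (Subgroup.map_mono inf_le_left) (Subgroup.map_mono inf_le_right)
      have heq : R.map π = _ := eq_of_relIndex hle
        ((P.mapSurjective hπ).isPGroup'.to_le inf_le_left) fun h => by
          refine not_dvd_relIndex_inf P U (h.trans ?_)
          exact (Dvd.intro _ (Subgroup.relIndex_mul_relIndex _ _ _ hle inf_le_right)).trans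
            (relIndex_map_dvd' π)
      have hn : (R.map π).Normal := by rw [heq]; exact hih
      rw [show N = π.ker from (QuotientGroup.ker_mk' N).symm, ← Subgroup.comap_map_eq]
      exact hn.comap π
    rcases em (N ≤ U) with hNU | hNU
    swap
    · have h0 : N ⊓ U = ⊥ := Hall.minimal_normal_inf_eq_bot hmin hNU
      have e : (R ⊔ N) ⊓ U = R := by
        refine le_antisymm (fun x ⟨hx, hxU⟩ => ?_) (le_inf le_sup_left inf_le_right)
        have hx' : x ∈ (↑(R ⊔ N) : Set G) := hx
        rw [Subgroup.mul_normal] at hx'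
        obtain ⟨r, hr, n, hn, rfl⟩ := hx'
        have : n ∈ N ⊓ U := ⟨hn, by
          have := U.mul_mem (U.inv_mem (inf_le_right (a := (P : Subgroup G)) hr)) hxU
          rwa [inv_mul_cancel_left] at this⟩
        rw [h0, Subgroup.mem_bot] at this
        rw [this]
        simpa using hr
      rw [← e]
      infer_instance
    by_cases hpN : p ∣ Nat.card N
    · obtain ⟨x, hx⟩ := exists_prime_orderOf_dvd_card' p hpN
      have hxH : (x : G) ∈ primeGen G p := Subgroup.subset_closure ⟨1, by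
        rw [pow_one, Subgroup.orderOf_coe, hx]⟩
      have hNH : N ≤ primeGen G p := by
        by_contra hno
        have h0 : (x : G) ∈ N ⊓ primeGen G p := ⟨x.2, hxH⟩
        rw [Hall.minimal_normal_inf_eq_bot hmin hno, Subgroup.mem_bot, OneMemClass.coe_eq_one] at h0
        rw [h0, orderOf_one] at hx
        exact (Fact.out : p.Prime).one_lt.ne hx
      haveI : Group.IsSolvable N := by
        haveI := hsolv
        exact Group.isSolvable_of_isSolvable_injective (Subgroup.inclusion_injective hNH)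
      obtain ⟨q, hq, -, hqN, -⟩ := Hall.minimal_normal_isElementaryAbelian hNne hmin
      have hqp : q = p := by
        obtain ⟨k, hk⟩ := (haveI : Fact q.Prime := ⟨hq⟩; IsPGroup.iff_card.1 hqN)
        exact ((Nat.prime_dvd_prime_iff_eq Fact.out hq).1
          ((Fact.out : p.Prime).dvd_of_dvd_pow (hk ▸ hpN))).symm
      subst hqp
      have hNP : N ≤ (P : Subgroup G) := by
        have hsup : IsPGroup q ((P : Subgroup G) ⊔ N : Subgroup G) :=
          P.isPGroup'.to_sup_of_normal_right hqN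
        rw [← P.3 hsup le_sup_left]
        exact le_sup_right
      rw [show R = R ⊔ N from (sup_eq_left.2 (le_inf hNP hNU)).symm]
      exact hW
    -- `N` has order prime to `p`
    have hcent : N ≤ Subgroup.centralizer (R : Set G) → R.Normal := by
      intro h
      refine ⟨fun r hr g => ?_⟩
      have hx : g * r * g⁻¹ ∈ (↑(R ⊔ N) : Set G) := hW.conj_mem r (le_sup_left (b := N) hr) g
      rw [Subgroup.mul_normal] at hx
      obtain ⟨s, hs, n, hn, e⟩ := hx
      obtain ⟨k, hk⟩ := hR ⟨r, hr⟩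
      have hk' : r ^ p ^ k = 1 := congrArg Subtype.val hk
      obtain ⟨k', hk''⟩ := hR ⟨s, hs⟩
      have hs' : s ^ p ^ k' = 1 := congrArg Subtype.val hk''
      have hcomm : Commute s n := Subgroup.mem_centralizer_iff.1 (h hn) s hs
      have h1 : (s * n) ^ p ^ (k + k') = 1 := by
        rw [show s * n = g * r * g⁻¹ from e, conj_pow, pow_add, pow_mul, hk', one_pow, mul_one,
          mul_inv_cancel]
      rw [hcomm.mul_pow, show s ^ p ^ (k + k') = 1 by
        rw [pow_add, mul_comm, pow_mul, hs', one_pow], one_mul] at h1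
      have h2 : n ^ Nat.card N = 1 := orderOf_dvd_iff_pow_eq_one.1 (N.orderOf_dvd_natCard hn)
      have h3 := pow_gcd_eq_one.2 ⟨h1, h2⟩
      rw [show Nat.gcd (p ^ (k + k')) (Nat.card N) = 1 from
        ((Fact.out : p.Prime).coprime_iff_not_dvd.2 hpN).pow_left _, pow_one] at h3
      rw [← e, h3]
      simpa using hs
    by_cases hNC : N ≤ Subgroup.centralizer (R : Set G)
    · exact hcent hNC
    exfalso
    have hNH : N ≤ primeGen G p := by
      by_contra hno
      refine hNC fun n hn => Subgroup.mem_centralizer_iff.2 fun r hr => ?_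
      exact (Subgroup.commute_of_normal_of_disjoint N (primeGen G p) hN inferInstance
        (disjoint_iff.2 (Hall.minimal_normal_inf_eq_bot hmin hno)) n r hn
        (sylow_le_primeGen p P.isPGroup' (inf_le_left (b := U) hr))).symm
    haveI : Group.IsSolvable N := by
      haveI := hsolv
      exact Group.isSolvable_of_isSolvable_injective (Subgroup.inclusion_injective hNH)
    obtain ⟨q, hq, -, hqN, hel⟩ := Hall.minimal_normal_isElementaryAbelian hNne hmin
    have hNK : N ≤ primeGen G 2 := by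
      intro n hn
      have h1 : n ^ p ^ a ∈ primeGen G 2 := by
        have := ((primeGen G 2).subgroupOf U).pow_index_mem ⟨n, hNU hn⟩
        rw [show ((primeGen G 2).subgroupOf U).index = p ^ a from ha] at this
        simpa [Subgroup.mem_subgroupOf] using this
      have h2 : n ^ Nat.card N = 1 := orderOf_dvd_iff_pow_eq_one.1 (N.orderOf_dvd_natCard hn)
      obtain ⟨j, hj⟩ := exists_pow_eq_self_of_coprime (x := n) (n := p ^ a)
        ((((Fact.out : p.Prime).coprime_iff_not_dvd.2 hpN).pow_left a).coprime_dvd_right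
          (orderOf_dvd_of_pow_eq_one h2))
      exact hj ▸ Subgroup.pow_mem _ h1 j
    set W := R ⊔ N
    haveI := hW
    have hsup : N ⊔ Subgroup.normalizer (R : Set G) = ⊤ := by
      have hRW : IsPGroup p (R.subgroupOf W) :=
        hR.of_equiv (Subgroup.subgroupOfEquivOfLe le_sup_left).symm
      have hidx : ¬ p ∣ (R.subgroupOf W).index := by
        show ¬ p ∣ R.relIndex W
        rw [relIndex_sup_normal]
        exact fun h => hpN (h.trans (((R ⊓ N).subgroupOf N).index_dvd_card))
      have := Sylow.normalizer_sup_eq_top (hRW.toSylow hidx)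
      rw [IsPGroup.toSylow_coe, Subgroup.map_subgroupOf_eq_of_le le_sup_left] at this
      rw [eq_top_iff, ← this]
      refine sup_le le_sup_right (sup_le ?_ le_sup_left)
      exact le_sup_of_le_right Subgroup.le_normalizer
    have hdec : ∀ g : G, ∃ n ∈ N, ∃ l ∈ Subgroup.normalizer (R : Set G), g = n * l := by
      intro g
      have hg : g ∈ (↑(N ⊔ Subgroup.normalizer (R : Set G)) : Set G) := by rw [hsup]; trivial
      rw [Subgroup.normal_mul] at hg
      obtain ⟨n, hn, l, hl, rfl⟩ := hg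
      exact ⟨n, hn, l, hl, rfl⟩
    have hdisj : N ⊓ Subgroup.normalizer (R : Set G) = ⊥ := by
      haveI := (hel.1 : IsMulCommutative N)
      have hn : (N ⊓ Subgroup.normalizer (R : Set G)).Normal := by
        constructor
        intro x ⟨hxN, hxL⟩ g
        obtain ⟨n, hn, l, hl, rfl⟩ := hdec g
        have h1 : l * x * l⁻¹ ∈ N := hN.conj_mem x hxN l
        have h2 : n * l * x * (n * l)⁻¹ = l * x * l⁻¹ := by
          have hab : n * (l * x * l⁻¹) = (l * x * l⁻¹) * n :=
            congrArg Subtype.val (mul_comm' (⟨n, hn⟩ : N) ⟨_, h1⟩)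
          rw [show n * l * x * (n * l)⁻¹ = n * (l * x * l⁻¹) * n⁻¹ by group, hab,
            mul_inv_cancel_right]
        rw [h2]
        exact ⟨h1, (Subgroup.normalizer (R : Set G)).mul_mem
          ((Subgroup.normalizer (R : Set G)).mul_mem hl hxL)
          ((Subgroup.normalizer (R : Set G)).inv_mem hl)⟩
      refine (hmin _ hn inf_le_left).resolve_right fun h => hNC fun x hx => ?_
      refine Subgroup.mem_centralizer_iff.2 fun r hr => ?_
      have hxL : x ∈ Subgroup.normalizer (R : Set G) := inf_le_right (a := N) (h.symm ▸ hx)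
      have h1 : r * x * r⁻¹ * x⁻¹ ∈ R := by
        have := R.mul_mem hr ((Subgroup.mem_normalizer_iff.1 hxL r⁻¹).1 (R.inv_mem hr))
        convert this using 1
        group
      have h2 : r * x * r⁻¹ * x⁻¹ ∈ N := N.mul_mem (hN.conj_mem x hx r) (N.inv_mem hx)
      obtain ⟨k, hk⟩ := hR ⟨_, h1⟩
      have h3 := pow_gcd_eq_one.2 ⟨(congrArg Subtype.val hk :),
        (orderOf_dvd_iff_pow_eq_one.1 (N.orderOf_dvd_natCard h2))⟩
      rw [show Nat.gcd (p ^ k) (Nat.card N) = 1 from
        ((Fact.out : p.Prime).coprime_iff_not_dvd.2 hpN).pow_left k, pow_one,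
        mul_inv_eq_one, mul_inv_eq_iff_eq_mul] at h3
      exact h3
    exact false_of_complement hreal R hR N hNne hmin hel hq hqN hNK hdec hdisj hNC

theorem inf_normal (hsolv : Group.IsSolvable (primeGen G p)) (hreal : RealPP G p) (P : Sylow p G)
    (U : Subgroup G) [U.Normal] (hKU : primeGen G 2 ≤ U)
    (ha : ∃ a : ℕ, (primeGen G 2).relIndex U = p ^ a) : ((P : Subgroup G) ⊓ U).Normal :=
  inf_normal_aux _ G le_rfl hsolv hreal P U hKU ha

/-- The Sylow subgroup of such a subgroup is normal. -/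
theorem sylow_normal (hsolv : Group.IsSolvable (primeGen G p)) (hreal : RealPP G p)
    (U : Subgroup G) [U.Normal] (hKU : primeGen G 2 ≤ U)
    (ha : ∃ a : ℕ, (primeGen G 2).relIndex U = p ^ a) (Q : Sylow p U) :
    (Q : Subgroup U).Normal := by
  obtain ⟨P, hP⟩ := Sylow.exists_comap_subtype_eq Q
  haveI := inf_normal hsolv hreal P U hKU ha
  rw [← hP]
  show ((P : Subgroup G).subgroupOf U).Normal
  rw [← Subgroup.inf_subgroupOf_right]
  infer_instance

end Cfsg.Agent.CharTheory.RealPPrime
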