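import Mathlib
import Cfsg.Agent.Lib.CharTheory.RealPPrime.NormalSylow
import Cfsg.Agent.Lib.CharTheory.NormalSylow.Main

/-!
The correspondence between characters of `K` fixed by a Sylow subgroup `P` and those of
`K ∩ N_G(P)`.
-/

set_option autoImplicit false
set_option linter.style.haveILetI false
set_option linter.unusedSectionVars false

namespace Cfsg.Agent.CharTheory.RealPPrime

open Cfsg.Agent.Characters Cfsg.Agent.BlockCharsA
open scoped ComplexConjugate

universe u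

variable {G : Type u} [Group G] [Finite G] {p : ℕ} [Fact p.Prime] (P : Sylow p G) (K : Subgroup G)

/-- The normalizer of the Sylow subgroup. -/
abbrev nrm : Subgroup G := Subgroup.normalizer ((P : Subgroup G) : Set G)

/-- The part of `K` in the normalizer. -/
abbrev loc : Subgroup (nrm P) := K.subgroupOf (nrm P)

/-- The inclusion of the part in the normalizer. -/
abbrev incl : loc P K →* K := (nrm P).subtype.subgroupComap K

variable [K.Normal]

/-- Fixed by the Sylow subgroup, on `K`. -/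
def InvK (θ : K → ℂ) : Prop := ∀ r ∈ (P : Subgroup G), Clifford.conjBy K r θ = θ

/-- Fixed by the Sylow subgroup, on the part in the normalizer. -/
def InvC (φ : loc P K → ℂ) : Prop :=
  ∀ r : nrm P, (r : G) ∈ (P : Subgroup G) → Clifford.conjBy (loc P K) r φ = φ

variable [Fintype (loc P K)]

/-- The multiplicity is prime to `p`. -/
def Cor (θ : K → ℂ) (φ : loc P K → ℂ) : Prop :=
  ∃ m : ℕ, Cfsg.classInner (fun c : loc P K => θ (incl P K c)) φ = (m : ℂ) ∧ ¬ p ∣ m

theorem cor_main (hQ : ((P : Subgroup G) ⊓ K).Normal) :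
    (∀ θ, Cfsg.IsIrrCharacter K θ → InvK P K θ →
      ∃ φ, Cfsg.IsIrrCharacter (loc P K) φ ∧ InvC P K φ ∧ Cor P K θ φ) ∧
    (∀ φ, Cfsg.IsIrrCharacter (loc P K) φ → InvC P K φ →
      ∃ θ, Cfsg.IsIrrCharacter K θ ∧ InvK P K θ ∧ Cor P K θ φ) ∧
    (∀ θ φ φ', Cfsg.IsIrrCharacter K θ → InvK P K θ →
      Cfsg.IsIrrCharacter (loc P K) φ → InvC P K φ →
      Cfsg.IsIrrCharacter (loc P K) φ' → InvC P K φ' →
      Cor P K θ φ → Cor P K θ φ' → φ = φ') ∧
    (∀ θ θ' φ, Cfsg.IsIrrCharacter K θ → InvK P K θ →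
      Cfsg.IsIrrCharacter K θ' → InvK P K θ' →
      Cfsg.IsIrrCharacter (loc P K) φ → InvC P K φ →
      Cor P K θ φ → Cor P K θ' φ → θ = θ') ∧
    (∀ θ φ, Cfsg.IsIrrCharacter K θ → InvK P K θ →
      Cfsg.IsIrrCharacter (loc P K) φ → InvC P K φ → Cor P K θ φ →
      (Cfsg.charDegree φ : ZMod p) = (Cfsg.charDegree θ : ZMod p) ∨
        (Cfsg.charDegree φ : ZMod p) = -(Cfsg.charDegree θ : ZMod p)) := by
  classical
  haveI := hQ
  haveI := Fintype.ofFinite K
  let S : Type u := ↥(P : Subgroup G)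
  let σ : S →* nrm P := Subgroup.inclusion Subgroup.le_normalizer
  letI actK : MulDistribMulAction S K :=
    MulDistribMulAction.compHom K ((MulAut.conjNormal (H := K)).comp (P : Subgroup G).subtype)
  letI actC : MulDistribMulAction S (loc P K) :=
    MulDistribMulAction.compHom (loc P K) ((MulAut.conjNormal (H := loc P K)).comp σ)
  set N : Subgroup K := ((P : Subgroup G) ⊓ K).subgroupOf K
  have hsK : ∀ (s : S) (x : K), ((s • x : K) : G) = (s : G) * x * (s : G)⁻¹ := fun s x =>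
    MulAut.conjNormal_apply (s : G) x
  have hsC : ∀ (s : S) (c : loc P K),
      (((s • c : loc P K) : nrm P) : G) = (s : G) * (c : nrm P) * (s : G)⁻¹ := fun s c =>
    congrArg Subtype.val (MulAut.conjNormal_apply (σ s) c)
  have hinj : Function.Injective (incl P K) := fun a b h =>
    Subtype.ext (Subtype.ext (congrArg (fun x : K => (x : G)) h))
  have hje : ∀ (s : S) (c : loc P K), incl P K (s • c) = s • incl P K c := fun s c =>
    Subtype.ext ((hsC s c).trans (hsK s (incl P K c)).symm)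
  have hNs : ∀ (s : S), ∀ x ∈ N, s • x ∈ N := fun s x hx => by
    show ((s • x : K) : G) ∈ (P : Subgroup G) ⊓ K
    rw [hsK]
    exact hQ.conj_mem _ hx _
  have hfix : ∀ x : K, (∃ c, incl P K c = x) ↔ ∀ s : S, (s • x) * x⁻¹ ∈ N := by
    intro x
    constructor
    · rintro ⟨c, rfl⟩ s
      refine ⟨?_, (s • incl P K c * (incl P K c)⁻¹).2⟩
      show ((s • incl P K c : K) : G) * (((c : nrm P) : G))⁻¹ ∈ (P : Subgroup G)
      rw [hsK, show ((incl P K c : K) : G) = ((c : nrm P) : G) from rfl,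
        show (s : G) * ((c : nrm P) : G) * (s : G)⁻¹ * (((c : nrm P) : G))⁻¹ =
        (s : G) * (((c : nrm P) : G) * (s : G)⁻¹ * (((c : nrm P) : G))⁻¹) by group]
      exact (P : Subgroup G).mul_mem s.2
        ((Subgroup.mem_normalizer_iff.1 (c : nrm P).2 _).1 ((P : Subgroup G).inv_mem s.2))
    · intro h
      have hall : ∀ r ∈ (P : Subgroup G), (x : G) * r * (x : G)⁻¹ ∈ (P : Subgroup G) := by
        intro r hr
        have h1 : r⁻¹ * (x : G) * r * (x : G)⁻¹ ∈ (P : Subgroup G) := by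
          have := (h (⟨r, hr⟩⁻¹ : S)).1
          change ((((⟨r, hr⟩ : S)⁻¹ • x * x⁻¹ : K)) : G) ∈ (P : Subgroup G) at this
          rw [Subgroup.coe_mul, hsK, Subgroup.coe_inv, Subgroup.coe_inv, inv_inv] at this
          exact this
        have h2 := (P : Subgroup G).mul_mem hr (by simpa using h1)
        simpa [mul_assoc] using h2
      have hmem : (x : G) ∈ nrm P := by
        rw [Subgroup.mem_normalizer_iff]
        exact fun y => ⟨hall y, mem_of_conj_mem (P : Subgroup G) x hall⟩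
      exact ⟨⟨⟨x, hmem⟩, x.2⟩, rfl⟩
  have hS : IsPGroup p S := P.isPGroup'
  have hNp : IsPGroup p N :=
    (P.isPGroup'.to_le inf_le_left).of_equiv (Subgroup.subgroupOfEquivOfLe inf_le_right).symm
  have hidx : ¬ p ∣ N.index := not_dvd_relIndex_inf P K
  have hK : ∀ θ : K → ℂ, InvK P K θ ↔ NormalSylow.InvFun S θ := by
    intro θ
    constructor
    · intro h s x
      exact congrFun (h (s : G) s.2) x
    · intro h r hr
      funext x
      exact h ⟨r, hr⟩ x
  have hC : ∀ φ : loc P K → ℂ, InvC P K φ ↔ NormalSylow.InvFun S φ := by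
    intro φ
    constructor
    · intro h s c
      exact congrFun (h (σ s) s.2) c
    · intro h r hr
      funext c
      exact h ⟨(r : G), hr⟩ c
  obtain ⟨h1, h2, h3⟩ := NormalSylow.correspondence (incl P K) hinj hje N hNs hfix hS hNp hidx
  have hcor : ∀ θ φ, NormalSylow.InvFun S φ → Cfsg.IsIrrCharacter (loc P K) φ →
      ∀ ξ, NormalSylow.Rel p S (incl P K) θ ξ → Cor P K θ φ → φ = ξ := by
    intro θ φ hφ hφi ξ hR ⟨m, hm, hpm⟩
    by_contra hne
    exact hpm ((hR φ hφi hφ m hm).1 hne)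
  have hcor' : ∀ θ, Cfsg.IsIrrCharacter K θ → ∀ ξ, Cfsg.IsIrrCharacter (loc P K) ξ →
      NormalSylow.InvFun S ξ → NormalSylow.Rel p S (incl P K) θ ξ → Cor P K θ ξ := by
    intro θ hθ ξ hξ hξi hR
    obtain ⟨m, hm⟩ := classInner_char_nat (isCharacter_comp (incl P K) (isCharacter_of_isIrr hθ))
      (isCharacter_of_isIrr hξ)
    exact ⟨m, hm, NormalSylow.not_dvd_of_pm ((hR ξ hξ hξi m hm).2 rfl)⟩
  have hrel : ∀ θ φ, Cfsg.IsIrrCharacter K θ → InvK P K θ →
      Cfsg.IsIrrCharacter (loc P K) φ → InvC P K φ → Cor P K θ φ →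
      NormalSylow.Rel p S (incl P K) θ φ := by
    intro θ φ hθ hθi hφ hφi hc
    obtain ⟨ξ, -, -, hR⟩ := h1 θ hθ ((hK θ).1 hθi)
    rwa [hcor θ φ ((hC φ).1 hφi) hφ ξ hR hc]
  refine ⟨fun θ hθ hθi => ?_, fun φ hφ hφi => ?_, fun θ φ φ' hθ hθi hφ hφi hφ' hφ'i hc hc' => ?_,
    fun θ θ' φ hθ hθi hθ' hθ'i hφ hφi hc hc' => ?_, fun θ φ hθ hθi hφ hφi hc => ?_⟩
  · obtain ⟨ξ, hξ, hξi, hR⟩ := h1 θ hθ ((hK θ).1 hθi)
    exact ⟨ξ, hξ, (hC ξ).2 hξi, hcor' θ hθ ξ hξ hξi hR⟩
  · obtain ⟨θ, hθ, hθi, hR⟩ := h2 φ hφ ((hC φ).1 hφi)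
    exact ⟨θ, hθ, (hK θ).2 hθi, hcor' θ hθ φ hφ ((hC φ).1 hφi) hR⟩
  · exact (hcor θ φ' ((hC φ').1 hφ'i) hφ' φ (hrel θ φ hθ hθi hφ hφi hc) hc').symm
  · exact h3 θ θ' hθ ((hK θ).1 hθi) hθ' ((hK θ').1 hθ'i) φ hφ ((hC φ).1 hφi)
      (hrel θ φ hθ hθi hφ hφi hc) (hrel θ' φ hθ' hθ'i hφ hφi hc')
  · exact NormalSylow.degree_cong (incl P K) hS hθ ((hK θ).1 hθi) hje hφ ((hC φ).1 hφi)
      (hrel θ φ hθ hθi hφ hφi hc)

/-- Conjugation by the normalizer preserves the correspondence. -/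
theorem cor_conj {θ : K → ℂ} {φ : loc P K → ℂ} (h : Cor P K θ φ) (n : nrm P) :
    Cor P K (Clifford.conjBy K (n : G) θ) (Clifford.conjBy (loc P K) n φ) := by
  obtain ⟨m, hm, hp⟩ := h
  refine ⟨m, ?_, hp⟩
  rw [show (fun c : loc P K => Clifford.conjBy K (n : G) θ (incl P K c)) =
    Clifford.conjBy (loc P K) n (fun c => θ (incl P K c)) from rfl, Clifford.classInner_conjBy, hm]

/-- Complex conjugation preserves the correspondence. -/
theorem cor_star {θ : K → ℂ} {φ : loc P K → ℂ} (h : Cor P K θ φ) :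
    Cor P K (fun x => conj (θ x)) (fun c => conj (φ c)) := by
  obtain ⟨m, hm, hp⟩ := h
  refine ⟨m, ?_, hp⟩
  rw [classInner_conj_conj, hm, Complex.conj_natCast]

theorem invK_star {θ : K → ℂ} (h : InvK P K θ) : InvK P K (fun x => conj (θ x)) := fun r hr =>
  funext fun x => congrArg conj (congrFun (h r hr) x)

theorem invC_star {φ : loc P K → ℂ} (h : InvC P K φ) : InvC P K (fun x => conj (φ x)) :=
  fun r hr => funext fun x => congrArg conj (congrFun (h r hr) x)

theorem invK_conj {θ : K → ℂ} (h : InvK P K θ) (n : nrm P) :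
    InvK P K (Clifford.conjBy K (n : G) θ) := by
  intro r hr
  have hr' : (n : G) * r * (n : G)⁻¹ ∈ (P : Subgroup G) :=
    (Subgroup.mem_normalizer_iff.1 n.2 r).1 hr
  rw [Clifford.conjBy_conjBy,
    show (n : G) * r = ((n : G) * r * (n : G)⁻¹) * n by group, ← Clifford.conjBy_conjBy,
    h _ hr']

theorem invC_conj {φ : loc P K → ℂ} (h : InvC P K φ) (n : nrm P) :
    InvC P K (Clifford.conjBy (loc P K) n φ) := by
  intro r hr
  have hr' : ((n * r * n⁻¹ : nrm P) : G) ∈ (P : Subgroup G) :=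
    (Subgroup.mem_normalizer_iff.1 n.2 r).1 hr
  rw [Clifford.conjBy_conjBy, show n * r = (n * r * n⁻¹) * n by group, ← Clifford.conjBy_conjBy,
    h _ hr']

end Cfsg.Agent.CharTheory.RealPPrime
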