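import Mathlib
import Cfsg.Agent.Lib.CharTheory.RealPPrime.Correspondence
import Cfsg.Agent.S0160

/-!
The bijection between the real characters of a group and the real characters of degree prime to
`p` of the normalizer of a Sylow subgroup.
-/

set_option autoImplicit false
set_option linter.style.haveILetI false
set_option linter.unusedSectionVars false

namespace Cfsg.Agent.CharTheory.RealPPrime

open Cfsg.Agent.Characters Cfsg.Agent.CharTheory.RelativeM
open scoped ComplexConjugate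

universe u

variable {G : Type u} [Group G] [Finite G] {p : ℕ} [Fact p.Prime] (P : Sylow p G)

/-- Frattini for a subgroup containing two conjugates of the Sylow subgroup. -/
theorem exists_nrm_mul {T : Subgroup G} (hPT : (P : Subgroup G) ≤ T) {g : G}
    (hg : ∀ r ∈ (P : Subgroup G), g * r * g⁻¹ ∈ T) :
    ∃ n ∈ nrm P, ∃ t ∈ T, g = t * n := by
  classical
  set Q : Subgroup G := (P : Subgroup G).map (MulAut.conj g).toMonoidHom
  have hQT : Q ≤ T := by
    rintro - ⟨r, hr, rfl⟩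
    exact hg r hr
  have hQ : IsPGroup p (Q.subgroupOf T) :=
    (P.isPGroup'.map _).of_equiv (Subgroup.subgroupOfEquivOfLe hQT).symm
  have hd : ¬ p ∣ (Q.subgroupOf T).index := by
    intro h
    refine P.not_dvd_index ((h.trans (Dvd.intro _ (Subgroup.relIndex_mul_index hQT))).trans ?_)
    rw [Subgroup.index_map_of_injective _ (MulAut.conj g).injective,
      MonoidHom.range_eq_top.2 (MulAut.conj g).surjective, Subgroup.index_top, mul_one]
  obtain ⟨τ, hτ⟩ := MulAction.exists_smul_eq T (hQ.toSylow hd) (P.subtype hPT)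
  refine ⟨(τ : G) * g, ?_, (τ : G)⁻¹, T.inv_mem τ.2, by group⟩
  have hall : ∀ r ∈ (P : Subgroup G), ((τ : G) * g) * r * ((τ : G) * g)⁻¹ ∈ (P : Subgroup G) := by
    intro r hr
    have h1 : (P.subtype hPT : Subgroup T) =
        (Q.subgroupOf T).map (MulAut.conj τ).toMonoidHom := by
      conv_lhs => rw [← hτ]
      rfl
    have h2 : MulAut.conj τ (⟨g * r * g⁻¹, hg r hr⟩ : T) ∈ (P.subtype hPT : Subgroup T) := by
      rw [h1]
      exact Subgroup.mem_map_of_mem _ ⟨r, hr, rfl⟩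
    have h3 : ((MulAut.conj τ (⟨g * r * g⁻¹, hg r hr⟩ : T) : T) : G) ∈ (P : Subgroup G) := h2
    simpa [mul_assoc] using h3
  rw [Subgroup.mem_normalizer_iff]
  exact fun y => ⟨hall y, mem_of_conj_mem (P : Subgroup G) _ hall⟩

/-- The cosets fixed by the Sylow subgroup are those of the normalizer. -/
theorem index_cong {T : Subgroup G} (hPT : (P : Subgroup G) ≤ T) :
    ((T.index : ℕ) : ZMod p) = (((T.subgroupOf (nrm P)).index : ℕ) : ZMod p) := by
  classical
  have h := P.isPGroup'.card_modEq_card_fixedPoints (G ⧸ T)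
  rw [← Subgroup.index_eq_card, ← ZMod.natCast_eq_natCast_iff] at h
  rw [h]
  congr 1
  rw [Subgroup.index_eq_card]
  symm
  let f : (nrm P) ⧸ T.subgroupOf (nrm P) → G ⧸ T := fun q =>
    Quotient.liftOn' q (fun n => ((n : G) : G ⧸ T)) fun a b hab => by
      rw [QuotientGroup.leftRel_apply] at hab
      exact QuotientGroup.eq.2 hab
  have hf : ∀ q, f q ∈ MulAction.fixedPoints (P : Subgroup G) (G ⧸ T) := by
    intro q
    induction q using QuotientGroup.induction_on with | _ n => ?_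
    intro r
    show (((r : G) * n : G) : G ⧸ T) = ((n : G) : G ⧸ T)
    rw [eq_comm, QuotientGroup.eq, ← mul_assoc]
    refine hPT ?_
    have := (Subgroup.mem_normalizer_iff.1 ((nrm P).inv_mem n.2) r).1 r.2
    rwa [inv_inv] at this
  refine Nat.card_congr (Equiv.ofBijective (fun q => (⟨f q, hf q⟩ :
    MulAction.fixedPoints (P : Subgroup G) (G ⧸ T))) ⟨?_, ?_⟩)
  · intro a b hab
    induction a using QuotientGroup.induction_on with | _ a => ?_
    induction b using QuotientGroup.induction_on with | _ b => ?_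
    have h1 : ((a : G) : G ⧸ T) = ((b : G) : G ⧸ T) := congrArg Subtype.val hab
    exact QuotientGroup.eq.2 (QuotientGroup.eq.1 h1 :)
  · rintro ⟨q, hq⟩
    induction q using QuotientGroup.induction_on with | _ g => ?_
    obtain ⟨n, hn, t, ht, hg⟩ := exists_nrm_mul P hPT (g := g⁻¹) fun r hr => by
      have h1 : ((r * g : G) : G ⧸ T) = (g : G ⧸ T) := hq ⟨r, hr⟩
      rw [eq_comm, QuotientGroup.eq, ← mul_assoc] at h1
      simpa using h1
    refine ⟨((⟨n⁻¹, (nrm P).inv_mem hn⟩ : nrm P) : (nrm P) ⧸ T.subgroupOf (nrm P)),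
      Subtype.ext ?_⟩
    show ((n⁻¹ : G) : G ⧸ T) = (g : G ⧸ T)
    rw [QuotientGroup.eq, inv_inv, show g = n⁻¹ * t⁻¹ by rw [← inv_inj, hg]; group]
    simpa using T.inv_mem ht

variable (K : Subgroup G) [K.Normal] [Fintype (loc P K)]

theorem odd_index_loc (hodd : Odd K.index) : Odd (loc P K).index :=
  hodd.of_dvd_nat (Subgroup.relIndex_dvd_index_of_normal K (nrm P))

variable [Fintype K]

/-- The inertia groups of corresponding characters. -/
theorem inertia_eq (hQ : ((P : Subgroup G) ⊓ K).Normal) {θ : K → ℂ} {φ : loc P K → ℂ}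
    (hθ : Cfsg.IsIrrCharacter K θ) (hθi : InvK P K θ) (hφ : Cfsg.IsIrrCharacter (loc P K) φ)
    (hφi : InvC P K φ) (hc : Cor P K θ φ) :
    inertia (loc P K) φ = (inertia K θ).subgroupOf (nrm P) := by
  obtain ⟨-, -, hu, hu', -⟩ := cor_main P K hQ
  ext n
  rw [Subgroup.mem_subgroupOf, mem_inertia, mem_inertia]
  constructor
  · intro h
    have h1 := cor_conj P K hc n
    rw [h] at h1
    exact hu' _ _ φ (Clifford.isIrrCharacter_conjBy K (n : G) hθ) (invK_conj P K hθi n) hθ hθi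
      hφ hφi h1 hc
  · intro h
    have h1 := cor_conj P K hc n
    rw [h] at h1
    exact hu θ _ _ hθ hθi (Clifford.isIrrCharacter_conjBy (loc P K) n hφ) (invC_conj P K hφi n)
      hφ hφi h1 hc

/-- The real characters of `G`. -/
abbrev RealIrr (X : Type u) [Group X] : Type u :=
  {χ : Cfsg.IrrCharacter X // ∀ g : X, ((χ : X → ℂ) g).im = 0}

/-- The real characters of degree prime to `p`. -/
abbrev RealPIrr (X : Type u) [Group X] (p : ℕ) : Type u :=
  {ξ : Cfsg.IrrCharacter X // (∀ n, ((ξ : X → ℂ) n).im = 0) ∧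
    ¬ p ∣ Cfsg.charDegree (ξ : X → ℂ)}

theorem exists_bijection (hodd : Odd K.index) (hQ : ((P : Subgroup G) ⊓ K).Normal)
    (hreal : RealPP G p) :
    ∃ f : RealIrr G → RealPIrr (nrm P) p, Function.Bijective f ∧
      ∀ χ, ((Cfsg.charDegree ((f χ).1 : nrm P → ℂ) : ZMod p) =
          (Cfsg.charDegree (χ.1 : G → ℂ) : ZMod p) ∨
        (Cfsg.charDegree ((f χ).1 : nrm P → ℂ) : ZMod p) =
          -(Cfsg.charDegree (χ.1 : G → ℂ) : ZMod p)) := by
  classical
  haveI := Fintype.ofFinite G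
  haveI := Fintype.ofFinite (nrm P)
  have hoddN := odd_index_loc P K hodd
  obtain ⟨he, he', hu, hu', hdeg⟩ := cor_main P K hQ
  have hP : IsPGroup p (P : Subgroup G) := P.isPGroup'
  have hinvT : ∀ {θ : K → ℂ}, InvK P K θ → (P : Subgroup G) ≤ inertia K θ :=
    fun h r hr => mem_inertia.2 (h r hr)
  have hf : ∀ χ : RealIrr G, ∃ (θ : Cfsg.IrrCharacter K) (φ : Cfsg.IrrCharacter (loc P K))
      (ξ : RealPIrr (nrm P) p), IsRealF (θ : K → ℂ) ∧ InvK P K (θ : K → ℂ) ∧
      InvC P K (φ : loc P K → ℂ) ∧ Cor P K (θ : K → ℂ) (φ : loc P K → ℂ) ∧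
      Cfsg.classInner (fun n : K => (χ.1 : G → ℂ) n) (θ : K → ℂ) = 1 ∧
      Cfsg.classInner (fun n : loc P K => (ξ.1 : nrm P → ℂ) n) (φ : loc P K → ℂ) = 1 ∧
      ((Cfsg.charDegree (ξ.1 : nrm P → ℂ) : ZMod p) = (Cfsg.charDegree (χ.1 : G → ℂ) : ZMod p) ∨
        (Cfsg.charDegree (ξ.1 : nrm P → ℂ) : ZMod p) =
          -(Cfsg.charDegree (χ.1 : G → ℂ) : ZMod p)) := by
    intro χ
    obtain ⟨θ₀, hθ₀, hne⟩ := Ito.exists_constituent
      (isCharacter_restrict K (irr_isCharacter χ.1)) (by simpa using irr_one_ne_zero χ.1.2)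
    have hr₀ := real_constituent K hodd χ.1.2 χ.2 hθ₀ hne
    obtain ⟨χ₀, ⟨-, hone⟩, huniq⟩ := exists_unique_real_over K hodd hθ₀ hr₀
    obtain rfl := huniq χ.1 χ.2 hne
    have hd₀ := real_degree K (χ := χ.1) (θ := ⟨θ₀, hθ₀⟩) hone
    obtain ⟨g, hg⟩ := exists_conj_le hP (inertia K θ₀) fun h =>
      hreal χ.1 χ.2 (hd₀ ▸ h.trans (dvd_mul_right _ _))
    let θ : Cfsg.IrrCharacter K :=
      ⟨Clifford.conjBy K g⁻¹ θ₀, Clifford.isIrrCharacter_conjBy K g⁻¹ hθ₀⟩
    have hθi : InvK P K (θ : K → ℂ) := by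
      intro r hr
      show Clifford.conjBy K r (Clifford.conjBy K g⁻¹ θ₀) = Clifford.conjBy K g⁻¹ θ₀
      rw [Clifford.conjBy_conjBy, show g⁻¹ * r = (g⁻¹ * r * g) * g⁻¹ by group,
        ← Clifford.conjBy_conjBy, mem_inertia.1 (hg r hr)]
    have hθr : IsRealF (θ : K → ℂ) := fun x => hr₀ _
    have hone' : Cfsg.classInner (fun n : K => (χ.1 : G → ℂ) n) (θ : K → ℂ) = 1 := by
      show Cfsg.classInner _ (Clifford.conjBy K g⁻¹ θ₀) = 1
      rw [Clifford.classInner_restrict_conjBy K (irr_isClassFunction χ.1), hone]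
    obtain ⟨φ, hφ, hφi, hc⟩ := he (θ : K → ℂ) θ.2 hθi
    have hφr : IsRealF φ := by
      rw [isRealF_iff_conj]
      intro c
      have h1 := cor_star P K hc
      rw [funext ((isRealF_iff_conj _).1 hθr)] at h1
      exact congrFun (hu _ _ _ θ.2 hθi (isIrrCharacter_conj hφ) (invC_star P K hφi) hφ hφi h1 hc) c
    obtain ⟨ξ, ⟨hξr, hξ1⟩, -⟩ := exists_unique_real_over (loc P K) hoddN hφ hφr
    have hd := real_degree K (χ := χ.1) (θ := θ) hone'
    have hdN := real_degree (loc P K) (χ := ξ) (θ := ⟨φ, hφ⟩) hξ1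
    have hcong : (Cfsg.charDegree (ξ : nrm P → ℂ) : ZMod p) =
          (Cfsg.charDegree (χ.1 : G → ℂ) : ZMod p) ∨
        (Cfsg.charDegree (ξ : nrm P → ℂ) : ZMod p) =
          -(Cfsg.charDegree (χ.1 : G → ℂ) : ZMod p) := by
      rw [hd, hdN]
      show (((inertia (loc P K) φ).index * Cfsg.charDegree φ : ℕ) : ZMod p) = _ ∨
        (((inertia (loc P K) φ).index * Cfsg.charDegree φ : ℕ) : ZMod p) = _
      rw [inertia_eq P K hQ θ.2 hθi hφ hφi hc, Nat.cast_mul, Nat.cast_mul,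
        ← index_cong P (hinvT hθi)]
      rcases hdeg _ φ θ.2 hθi hφ hφi hc with h | h
      · left; rw [h]
      · right; rw [h, mul_neg]
    have hpd : ¬ p ∣ Cfsg.charDegree (ξ : nrm P → ℂ) := by
      rw [← ZMod.natCast_eq_zero_iff]
      intro h0
      refine hreal χ.1 χ.2 ((ZMod.natCast_eq_zero_iff _ p).1 ?_)
      rcases hcong with h | h
      · rw [← h, h0]
      · rw [← neg_eq_zero, ← h, h0]
    exact ⟨θ, ⟨φ, hφ⟩, ⟨ξ, hξr, hpd⟩, hθr, hθi, hφi, hc, hone', hξ1, hcong⟩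
  choose θ φ f hθr hθi hφi hc hχθ hξφ hcong using hf
  refine ⟨f, ⟨fun χ χ' h => ?_, fun ξ => ?_⟩, hcong⟩
  · have h1 := hξφ χ
    rw [h] at h1
    obtain ⟨n, hn⟩ := Clifford.exists_conjBy_eq (loc P K) (f χ').1.2 (φ χ').2 (φ χ).2
      (by rw [hξφ χ']; exact one_ne_zero) (by rw [h1]; exact one_ne_zero)
    have h2 := cor_conj P K (hc χ') n
    rw [hn] at h2
    have h3 := hu' _ _ _ (θ χ).2 (hθi χ) (Clifford.isIrrCharacter_conjBy K (n : G) (θ χ').2)
      (invK_conj P K (hθi χ') n) (φ χ).2 (hφi χ) (hc χ) h2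
    obtain ⟨χ₀, -, huniq⟩ := exists_unique_real_over K hodd (θ χ).2 (hθr χ)
    refine Subtype.ext ((huniq χ.1 χ.2 (by rw [hχθ χ]; exact one_ne_zero)).trans
      (huniq χ'.1 χ'.2 ?_).symm)
    rw [h3, Clifford.classInner_restrict_conjBy K (irr_isClassFunction χ'.1), hχθ χ']
    exact one_ne_zero
  · obtain ⟨φ₀, hφ₀, hne⟩ := Ito.exists_constituent
      (isCharacter_restrict (loc P K) (irr_isCharacter ξ.1)) (by simpa using irr_one_ne_zero ξ.1.2)
    have hr₀ := real_constituent (loc P K) hoddN ξ.1.2 ξ.2.1 hφ₀ hne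
    obtain ⟨ξ₀, ⟨-, hone⟩, huniq⟩ := exists_unique_real_over (loc P K) hoddN hφ₀ hr₀
    obtain rfl := huniq ξ.1 ξ.2.1 hne
    have hd₀ := real_degree (loc P K) (χ := ξ.1) (θ := ⟨φ₀, hφ₀⟩) hone
    set S : Subgroup (nrm P) := (P : Subgroup G).subgroupOf (nrm P) with hS
    have hSp : IsPGroup p S :=
      hP.of_equiv (Subgroup.subgroupOfEquivOfLe Subgroup.le_normalizer).symm
    obtain ⟨g, hg⟩ := exists_conj_le hSp (inertia (loc P K) φ₀) fun h =>
      ξ.2.2 (hd₀ ▸ h.trans (dvd_mul_right _ _))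
    have hφi₀ : InvC P K φ₀ := by
      intro r hr
      have hr' : g * r * g⁻¹ ∈ S := (Subgroup.mem_normalizer_iff.1 g.2 (r : G)).1 hr
      have := mem_inertia.1 (hg _ hr')
      rwa [show g⁻¹ * (g * r * g⁻¹) * g = r by group] at this
    obtain ⟨θ₀, hθ₀, hθi₀, hc₀⟩ := he' φ₀ hφ₀ hφi₀
    have hθr₀ : IsRealF θ₀ := by
      rw [isRealF_iff_conj]
      intro x
      have h1 := cor_star P K hc₀
      rw [funext ((isRealF_iff_conj _).1 hr₀)] at h1
      exact congrFun
        (hu' _ _ _ (isIrrCharacter_conj hθ₀) (invK_star P K hθi₀) hθ₀ hθi₀ hφ₀ hφi₀ h1 hc₀) x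
    obtain ⟨χ₀, ⟨hχr, hχ1⟩, -⟩ := exists_unique_real_over K hodd hθ₀ hθr₀
    refine ⟨⟨χ₀, hχr⟩, Subtype.ext ?_⟩
    set χ : RealIrr G := ⟨χ₀, hχr⟩
    obtain ⟨g', hg'⟩ := Clifford.exists_conjBy_eq K χ₀.2 hθ₀ (θ χ).2
      (by rw [hχ1]; exact one_ne_zero) (by rw [show (χ₀ : G → ℂ) = (χ.1 : G → ℂ) from rfl, hχθ χ]
                                           exact one_ne_zero)
    obtain ⟨n, hn, t, ht, hgn⟩ := exists_nrm_mul P (hinvT hθi₀) (g := g') fun r hr => by
      have h1 := hθi χ r hr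
      rw [← hg', Clifford.conjBy_conjBy] at h1
      refine mem_inertia.2 ?_
      apply Clifford.conjBy_injective K g'
      rw [Clifford.conjBy_conjBy, show g' * r * g'⁻¹ * g' = g' * r by group, h1]
    have hθn : Clifford.conjBy K n θ₀ = (θ χ : K → ℂ) := by
      rw [← hg', hgn, ← Clifford.conjBy_conjBy, mem_inertia.1 ht]
    have h2 := cor_conj P K hc₀ ⟨n, hn⟩
    rw [show Clifford.conjBy K ((⟨n, hn⟩ : nrm P) : G) θ₀ = (θ χ : K → ℂ) from hθn] at h2
    have h3 := hu _ _ _ (θ χ).2 (hθi χ) (Clifford.isIrrCharacter_conjBy (loc P K) _ hφ₀)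
      (invC_conj P K hφi₀ _) (φ χ).2 (hφi χ) h2 (hc χ)
    refine huniq (f χ).1 (f χ).2.1 ?_
    rw [← Clifford.classInner_restrict_conjBy (loc P K) (irr_isClassFunction (f χ).1) ⟨n, hn⟩ φ₀,
      h3, hξφ χ]
    exact one_ne_zero

/-- With trivial intersection every real class meets the normalizer. -/
theorem meets (hodd : Odd K.index) (hQ : (P : Subgroup G) ⊓ K = ⊥) (hreal : RealPP G p)
    {x : G} (hx : IsConj x x⁻¹) : ∃ y ∈ nrm P, IsConj x y := by
  classical
  obtain ⟨f, hf, -⟩ := exists_bijection P K hodd (by rw [hQ]; infer_instance) hreal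
  have hoddN := odd_index_loc P K hodd
  let A := {C : ConjClasses (nrm P) // ∀ g, ConjClasses.mk g = C → IsConj g g⁻¹}
  let B := {C : ConjClasses G // ∀ g, ConjClasses.mk g = C → IsConj g g⁻¹}
  have hreal_mk : ∀ (X : Type u) [Group X] (a : X), IsConj a a⁻¹ →
      ∀ g : X, ConjClasses.mk g = ConjClasses.mk a → IsConj g g⁻¹ := by
    intro X _ a ha g hg
    have h1 : IsConj g a := ConjClasses.mk_eq_mk_iff_isConj.1 hg
    obtain ⟨c, hc⟩ := isConj_iff.1 h1
    exact h1.trans (ha.trans (isConj_iff.2 ⟨c, by rw [← hc]; group⟩).symm)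
  have hmap : ∀ C : A, ∀ g, ConjClasses.mk g = ConjClasses.map (nrm P).subtype C.1 →
      IsConj g g⁻¹ := by
    intro C g hg
    obtain ⟨y, hy⟩ := ConjClasses.exists_rep C.1
    rw [← hy] at hg
    exact hreal_mk G (y : G) ((nrm P).subtype.map_isConj (C.2 y hy)) g hg
  let Φ : A → B := fun C => ⟨ConjClasses.map (nrm P).subtype C.1, hmap C⟩
  have hcent : ∀ C : A, ∀ y, ConjClasses.mk y = C.1 →
      (P : Subgroup G) ≤ Subgroup.centralizer ({(y : G)} : Set G) := by
    intro C y hy r hr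
    have hyK : (y : G) ∈ K := mem_of_real (loc P K) hoddN (C.2 y hy)
    rw [Subgroup.mem_centralizer_singleton_iff]
    have h1 : r * y * r⁻¹ * (y : G)⁻¹ ∈ (P : Subgroup G) ⊓ K := by
      refine ⟨?_, K.mul_mem ((inferInstance : K.Normal).conj_mem _ hyK r) (K.inv_mem hyK)⟩
      rw [show r * y * r⁻¹ * (y : G)⁻¹ = r * ((y : G) * r⁻¹ * (y : G)⁻¹) by group]
      exact (P : Subgroup G).mul_mem hr
        ((Subgroup.mem_normalizer_iff.1 y.2 _).1 ((P : Subgroup G).inv_mem hr))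
    rw [hQ, Subgroup.mem_bot, mul_inv_eq_one, mul_inv_eq_iff_eq_mul] at h1
    exact h1
  have hinj : Function.Injective Φ := by
    intro C C' h
    obtain ⟨y, hy⟩ := ConjClasses.exists_rep C.1
    obtain ⟨y', hy'⟩ := ConjClasses.exists_rep C'.1
    have h1 : ConjClasses.map (nrm P).subtype C.1 = ConjClasses.map (nrm P).subtype C'.1 :=
      congrArg Subtype.val h
    rw [← hy, ← hy'] at h1
    obtain ⟨g, hg⟩ := isConj_iff.1 (ConjClasses.mk_eq_mk_iff_isConj.1 h1)
    have hg' : g * (y : G) * g⁻¹ = (y' : G) := hg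
    obtain ⟨n, hn, t, ht, hgn⟩ := exists_nrm_mul P (hcent C' y' hy') (g := g) fun r hr => by
      have h2 := Subgroup.mem_centralizer_singleton_iff.1 (hcent C y hy hr)
      rw [Subgroup.mem_centralizer_singleton_iff, ← hg',
        show g * r * g⁻¹ * (g * y * g⁻¹) = g * (r * y) * g⁻¹ by group, h2]
      group
    refine Subtype.ext ?_
    rw [← hy, ← hy', ConjClasses.mk_eq_mk_iff_isConj]
    refine isConj_iff.2 ⟨⟨n, hn⟩, Subtype.ext ?_⟩
    show n * (y : G) * n⁻¹ = y'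
    have h3 := Subgroup.mem_centralizer_singleton_iff.1 ht
    rw [hgn] at hg'
    calc n * (y : G) * n⁻¹ = t⁻¹ * (t * n * y * (t * n)⁻¹) * t := by group
      _ = t⁻¹ * ((y' : G) * t) := by rw [hg', mul_assoc]
      _ = y' := by rw [← h3, inv_mul_cancel_left]
  have hle : Nat.card B ≤ Nat.card A := by
    have e1 : Nat.card (RealIrr G) = Nat.card B := S0160.result
    have e2 : Nat.card (RealIrr (nrm P)) = Nat.card A := S0160.result
    rw [← e1, ← e2]
    exact (Nat.card_congr (Equiv.ofBijective f hf)).trans_le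
      (Nat.card_le_card_of_injective (fun ξ : RealPIrr (nrm P) p =>
        (⟨ξ.1, ξ.2.1⟩ : RealIrr (nrm P))) fun a b h => Subtype.ext (congrArg (·.1) h))
  haveI : Finite B := inferInstance
  have hsurj : Function.Surjective Φ :=
    ((Nat.bijective_iff_injective_and_card Φ).2
      ⟨hinj, le_antisymm (Nat.card_le_card_of_injective Φ hinj) hle⟩).2
  obtain ⟨C, hC⟩ := hsurj ⟨ConjClasses.mk x, hreal_mk G x hx⟩
  obtain ⟨y, hy⟩ := ConjClasses.exists_rep C.1
  refine ⟨y, y.2, (ConjClasses.mk_eq_mk_iff_isConj.1 ?_).symm⟩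
  have h1 : ConjClasses.map (nrm P).subtype C.1 = ConjClasses.mk x := congrArg Subtype.val hC
  rw [← hy] at h1
  exact h1

end Cfsg.Agent.CharTheory.RealPPrime
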